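import Cfsg.Agent.Lib.NC.Def
import Cfsg.Agent.Lib.Inv.StronglyEmbedded
import Cfsg.Agent.Lib.Small.Four
import Cfsg.Agent.S1911

/-! # Standard subgroups `Sp₆(2)`, `Ω₈⁺(2)` of a simple group: the centraliser has order prime to 4 (helper15, `docs/NC.md`) -/

set_option autoImplicit false

namespace Cfsg.Lib.NC

open Subgroup
open MulAut (conj)

variable {J G : Type*} [Group J] [Group G] [Finite G] {A B : Subgroup G} {g u x : G}

local notation "𝐂(" A ")" => centralizer (A : Set G)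
local notation "𝐍(" A ")" => normalizer (A : Set G)

/-- a standard subgroup -/
structure Sd (J : Type*) [Group J] (A : Subgroup G) : Prop where
  tight : ∀ x ∈ 𝐂(A), ∀ g, x * x = 1 → x ≠ 1 → g * x * g⁻¹ ∈ 𝐂(A) → g ∈ 𝐍(A)
  nc : ∀ g, ¬ ∀ l ∈ A, g * l * g⁻¹ ∈ 𝐂(A)
  iso : Nonempty (J ≃* A)
  four : 4 ∣ Nat.card 𝐂(A)

/-- two conjugates -/
structure Pr (J : Type*) [Group J] (A B : Subgroup G) : Prop where
  a : Sd J A
  b : Sd J B
  ti : ∀ x ∈ 𝐂(A), x ∈ 𝐂(B) → x * x = 1 → x = 1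
  nc : ¬ A ≤ 𝐂(B)

omit [Finite G] in
theorem Pr.symm (P : Pr J A B) : Pr J B A :=
  ⟨P.b, P.a, fun x a c => P.ti x c a, fun h => P.nc fun a m _ n => (h n a m).symm⟩

omit [Finite G] in
theorem mem_cj : x ∈ A.map (conj g).toMonoidHom ↔ g⁻¹ * x * g ∈ A := mem_map_equiv.trans (by simp)
omit [Finite G] in
theorem cen_cj : x ∈ 𝐂(A.map (conj g).toMonoidHom) ↔ g⁻¹ * x * g ∈ 𝐂(A) :=
  ⟨fun h a m => by simpa [mul_assoc] using congrArg (g⁻¹ * · * g) (h _ ⟨a, m, rfl⟩), fun h a m => by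
    simpa [mul_assoc] using congrArg (g * · * g⁻¹) (h _ (mem_cj.1 m))⟩
omit [Finite G] in
theorem nor_cj : x ∈ 𝐍(A.map (conj g).toMonoidHom) ↔ g⁻¹ * x * g ∈ 𝐍(A) := by
  simp only [mem_normalizer_iff, mem_cj]
  exact ⟨fun h a => by simpa [mul_assoc] using h (g * a * g⁻¹), fun h a => by simpa [mul_assoc] using h (g⁻¹ * a * g)⟩
omit [Finite G] in
theorem nK (n : g ∈ 𝐍(A)) (m : x ∈ 𝐂(A)) : g * x * g⁻¹ ∈ 𝐂(A) := fun a h => by
  simpa [mul_assoc] using congrArg (g * · * g⁻¹) (m _ ((mem_normalizer_iff.1 (inv_mem n) a).1 h))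

omit [Finite G] in
theorem Sd.pr (S : Sd J A) (n : g ∉ 𝐍(A)) : Pr J A (A.map (conj g).toMonoidHom) := by
  refine ⟨S, ⟨fun x a h b c d => nor_cj.2 (S.tight _ (cen_cj.1 a) _ (by simp [mul_assoc, ← mul_assoc x x, b])
    (by simpa [mul_assoc, inv_mul_eq_one] using c) (by simpa [mul_assoc] using cen_cj.1 d)), fun h k => S.nc (g⁻¹ * h * g) fun l m => ?_,
    S.iso.map (·.trans ((conj g).subgroupMap A)), ?_⟩, fun x a b c => by_contra fun d => n (S.tight _ (cen_cj.1 b) g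
      (by simp [mul_assoc, ← mul_assoc x x, c]) (by simpa [mul_assoc, inv_mul_eq_one] using d) (by simpa [mul_assoc] using a)),
    fun h => S.nc g⁻¹ fun l m => by simpa using cen_cj.1 (h m)⟩
  · simpa [mul_assoc] using cen_cj.1 (k _ ⟨l, m, rfl⟩)
  · rw [show 𝐂(A.map (conj g).toMonoidHom) = 𝐂(A).map (conj g).toMonoidHom from Subgroup.ext fun _ => cen_cj.trans mem_cj.symm,
      card_map_of_injective (conj g).injective]
    exact S.four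

omit [Finite G] in
theorem Sd.cen (S : Sd J A) (m : x ∈ 𝐂(A)) (a : x * x = 1) (b : x ≠ 1) (c : g * x = x * g) : g ∈ 𝐍(A) :=
  S.tight x m g a b (by rwa [c, mul_inv_cancel_right])

omit [Finite G] in
theorem Sd.rho (S : Sd J A) : ∃ (ι : J →* G) (ρ : 𝐍(A) →* MulAut J), Function.Injective ι ∧ ι.range = A ∧
    (∀ n j, ι (ρ n j) = n * ι j * n.1⁻¹) ∧ (∀ n, ρ n = 1 ↔ n.1 ∈ 𝐂(A)) ∧ ∀ a h, ρ ⟨ι a, h⟩ = conj a := by
  obtain ⟨e⟩ := S.iso
  let ι := A.subtype.comp e.toMonoidHom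
  let ρ := (MulAut.congr e).symm.toMonoidHom.comp A.normalizerMonoidHom
  have i : Function.Injective ι := A.subtype_injective.comp e.injective
  have k : ∀ n j, ι (ρ n j) = n * ι j * n.1⁻¹ := fun n j => by simp [ι, ρ]
  refine ⟨ι, ρ, i, by rw [MonoidHom.range_comp, MonoidHom.range_eq_top.2 e.surjective, ← MonoidHom.range_eq_map, range_subtype], k,
    fun n => ⟨fun h a m => ?_, fun h => MulEquiv.ext fun j => i ?_⟩, fun a h => MulEquiv.ext fun j => i (by simp [k])⟩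
  · obtain ⟨j, p⟩ := e.surjective ⟨a, m⟩
    have := k n j
    rw [h, show ι j = a from congrArg Subtype.val p, MulAut.one_apply, show ι j = a from congrArg Subtype.val p] at this
    exact eq_mul_inv_iff_mul_eq.1 this
  · rw [k]; exact mul_inv_eq_iff_eq_mul.2 (h _ (e j).2).symm

theorem ex_inv {X : Subgroup G} (p : 2 ∣ Nat.card X) : ∃ u ∈ X, u * u = 1 ∧ u ≠ 1 := by
  have := Fact.mk Nat.prime_two
  obtain ⟨u, o⟩ := exists_prime_orderOf_dvd_card' 2 p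
  exact ⟨u, u.2, congrArg Subtype.val (show u * u = 1 from (sq _).symm.trans (orderOf_dvd_iff_pow_eq_one.1 o.dvd)),
    fun e => by rw [show u = 1 from Subtype.ext e, orderOf_one] at o; omega⟩

omit [Finite G] in
theorem Pr.two (P : Pr J A B) (a : x ∈ 𝐂(A)) (b : x ∈ 𝐂(B)) {n : ℕ} (e : x ^ 2 ^ n = 1) : x = 1 := by
  induction n with
  | zero => simpa using e
  | succ n ih => exact ih (P.ti _ (pow_mem a _) (pow_mem b _) (by rw [← pow_add, ← mul_two, ← pow_succ, e]))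

theorem Pr.exc (P : Pr J A B) (F : Fx J) (h : 4 ∣ Nat.card ↥(𝐂(B) ⊓ 𝐍(A))) : (∀ α : MulAut J, ∃ a, α = conj a) ∧
    (∃ E ≤ A ⊓ 𝐍(B), Nat.card E = 9 ∧ ∀ e ∈ E, e ∈ 𝐂(B) → e = 1) ∧
    ∀ E ≤ 𝐍(A), Nat.card E = 9 → (∀ e ∈ E, e ∈ 𝐂(A) → e = 1) → ¬ ∀ e ∈ E, ∀ m ∈ 𝐂(B) ⊓ 𝐍(A), m * e = e * m := by
  have := Fact.mk Nat.prime_two
  obtain ⟨ι, ρ, i, r, k, z, c⟩ := P.a.rho
  have mA : ∀ j, ι j ∈ A := fun j => r ▸ ⟨j, rfl⟩
  have T : TE ((𝐂(B).subgroupOf 𝐍(A)).map ρ) (𝐍(B).comap ι) := by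
    refine ⟨?_, ?_, ?_⟩
    · rintro y a _ ⟨m, b, rfl⟩
      exact ⟨⟨ι y, le_normalizer (mA y)⟩ * m * ⟨ι y, le_normalizer (mA y)⟩⁻¹, nK a b, by rw [map_mul, map_mul, map_inv, c]⟩
    · rintro _ ⟨w, a, rfl⟩ b d j e
      obtain ⟨s, t, o, q⟩ := Nat.exists_eq_two_pow_mul_odd (orderOf_pos w).ne'
      have p : ρ (w ^ t) = ρ w := by
        obtain ⟨t, rfl⟩ := o
        rw [map_pow, pow_succ, pow_mul, sq, b, one_pow, one_mul]
      refine P.b.cen (x := (w ^ t).1) (pow_mem a t) (P.two ((z (w ^ t * w ^ t)).1 (by rw [map_mul, p, b])) (mul_mem (pow_mem a t) (pow_mem a t)) (n := s) ?_)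
        (fun f => d (by rw [← p, show w ^ t = 1 from Subtype.ext f, map_one])) (eq_mul_inv_iff_mul_eq.1 (by rw [← k, p, e]))
      exact congrArg Subtype.val (show (w ^ t * w ^ t) ^ 2 ^ s = 1 by
        rw [← sq, ← pow_mul, ← pow_mul, mul_comm 2, ← mul_assoc, mul_comm t, ← q, pow_mul, pow_orderOf_eq_one, one_pow])
    · obtain ⟨R, hR⟩ := Sylow.exists_subgroup_card_pow_prime 2 (n := 2) h
      let f : R →* MulAut J := ρ.comp ((inclusion inf_le_right).comp R.subtype)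
      refine Dvd.dvd.trans ?_ (card_dvd_of_le (H := f.range) ?_)
      · rw [← Nat.card_congr (MonoidHom.ofInjective ((injective_iff_map_eq_one f).2 fun y e => Subtype.ext (Subtype.ext
          (P.two ((z _).1 e) y.1.2.1 (n := 2) (congrArg (fun a : R => a.1.1) (hR ▸ pow_card_eq_one' (x := y))))))).toEquiv, hR]; rfl
      · rintro _ ⟨y, rfl⟩; exact ⟨_, y.1.2.1, rfl⟩
  rcases F.te _ _ T with t | ⟨e1, ⟨E, e2, e3, e4⟩, e5⟩
  · have := F.simple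
    obtain ⟨u, ⟨a, b⟩, u2, u1⟩ := ex_inv (Dvd.dvd.trans (by decide) h)
    have : (𝐂(B).comap ι).Normal := ⟨fun x m y => by simpa using nK (t.ge (mem_top y)) m⟩
    rcases this.eq_bot_or_eq_top with p | p
    · refine absurd (P.ti u (r ▸ ?_) a u2) u1
      rintro _ ⟨j, rfl⟩
      have : j * (ρ ⟨u, b⟩ j)⁻¹ = 1 := mem_bot.1 (p.le (show ι _ ∈ 𝐂(B) by
        rw [map_mul, map_inv, k]; simpa [mul_assoc] using mul_mem (nK (t.ge (mem_top j)) a) (inv_mem a)))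
      exact eq_mul_inv_iff_mul_eq.1 ((congrArg ι (mul_inv_eq_one.1 this)).trans (k _ _))
    · exact absurd (r ▸ fun _ ⟨j, e⟩ => e ▸ p.ge (mem_top j)) P.nc
  refine ⟨e1, ⟨E.map ι, ?_, (card_map_of_injective i).trans e3, ?_⟩, fun E l p q s => e5 ?_⟩
  · rintro _ ⟨j, m, rfl⟩; exact ⟨mA j, e2 m⟩
  · rintro _ ⟨j, m, rfl⟩ a
    rw [e4 j m ⟨⟨_, le_normalizer (mA j)⟩, a, c _ _⟩, map_one]
  · let f : E →* MulAut J := ρ.comp (inclusion l)
    refine Dvd.dvd.trans ?_ (card_dvd_of_le (H := f.range) ?_)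
    · rw [← Nat.card_congr (MonoidHom.ofInjective ((injective_iff_map_eq_one f).2 fun y e => Subtype.ext
        (q _ y.2 ((z _).1 e)))).toEquiv, p]
    · rintro _ ⟨y, rfl⟩ _ ⟨m, a, rfl⟩
      exact (map_mul ρ _ _).symm.trans ((congrArg ρ (Subtype.ext (s _ y.2 _ ⟨a, m.2⟩))).trans (map_mul ρ _ _))

theorem Pr.four (P : Pr J A B) (F : Fx J) (a : u ∈ 𝐂(B)) (u2 : u * u = 1) (u1 : u ≠ 1) (m : x ∈ A) (i : x⁻¹ * u ∈ 𝐂(A)) :
    4 ∣ Nat.card ↥(𝐂(A) ⊓ 𝐍(B)) := by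
  obtain ⟨ι, ρ, j, r, -⟩ := P.a.rho
  have c := i x m
  have e : x * x * (x⁻¹ * u * (x⁻¹ * u)) = 1 := by
    rw [← u2, mul_assoc, ← mul_assoc x (x⁻¹ * u), c, ← mul_assoc, ← mul_assoc, ← mul_assoc]; simp [mul_assoc]
  have x2 : x * x = 1 := by
    obtain ⟨y, rfl⟩ := r.ge m
    rw [← map_mul, F.zen (y * y) fun b => j ?_, map_one]
    simp only [map_mul]
    rw [eq_inv_of_mul_eq_one_left e]
    exact (inv_mem (mul_mem i i) _ (r.le ⟨b, rfl⟩)).symm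
  refine (four_cen P.a.four i (by simpa [x2] using e)).trans (card_dvd_of_le fun k ⟨p, q⟩ => ⟨p, P.b.cen a u2 u1 ?_⟩)
  rw [← mul_inv_cancel_left x u, ← mul_assoc, ← p x m, mul_assoc, mem_centralizer_singleton_iff.1 q, mul_assoc x]

theorem Pr.inner (P : Pr J A B) (F : Fx J) (a : u ∈ 𝐂(B)) (u2 : u * u = 1) (u1 : u ≠ 1) (m : x ∈ A) (i : x⁻¹ * u ∈ 𝐂(A)) : False := by
  have h := P.four F a u2 u1 m i
  obtain ⟨p, -, q⟩ := P.symm.exc F h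
  obtain ⟨r, ⟨b, n⟩, r2, r1⟩ := ex_inv (Dvd.dvd.trans (by decide) h)
  obtain ⟨ι, ρ, -, s, -, z, c⟩ := P.b.rho
  obtain ⟨y, e⟩ := p (ρ ⟨r, n⟩)
  have l : ι y ∈ B := s.le ⟨y, rfl⟩
  obtain ⟨-, ⟨E, e1, e2, e3⟩, -⟩ := P.exc F (P.symm.four F b r2 r1 l ((z (⟨_, le_normalizer l⟩⁻¹ * ⟨r, n⟩)).1 (by
    rw [map_mul, map_inv, c, e, inv_mul_cancel])))
  exact q E (fun _ k => (e1 k).2) e2 e3 fun _ k _ o => (o.1 _ (e1 k).1).symm

theorem Pr.false (P : Pr J A B) (F : Fx J) (a : u ∈ 𝐂(B)) (n : u ∈ 𝐍(A)) (u2 : u * u = 1) (u1 : u ≠ 1) : False := by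
  obtain ⟨ι, ρ, i, r, k, z, c⟩ := P.a.rho
  have mA : ∀ j, ι j ∈ A := fun j => r ▸ ⟨j, rfl⟩
  have ni : ¬ ∃ y, ρ ⟨u, n⟩ = conj y := fun ⟨y, e⟩ => P.inner F a u2 u1 (mA y) ((z (⟨_, le_normalizer (mA y)⟩⁻¹ * ⟨u, n⟩)).1 (by
    rw [map_mul, map_inv, c, e, inv_mul_cancel]))
  obtain ⟨x, y, l, h1, h2, h3, h4, h5, h6, h7⟩ := (F.out _ (by rw [← map_mul, show (⟨u, n⟩ * ⟨u, n⟩ : 𝐍(A)) = 1 from Subtype.ext u2, map_one])).resolve_left ni
  have cm : ∀ {j}, ρ ⟨u, n⟩ j = j → ι j * u = u * ι j := fun {j} e => eq_mul_inv_iff_mul_eq.1 (by rw [← k ⟨u, n⟩, e])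
  have nB : ∀ {j}, ρ ⟨u, n⟩ j = j → ι j ∈ 𝐍(B) := fun e => P.b.cen a u2 u1 (cm e)
  have h8 : ρ ⟨u, n⟩ (x * y) = x * y := by rw [map_mul, h1, h2]
  have w : ι l * u * (ι l)⁻¹ = ι (x * y) * u := by
    rw [← h7, map_mul, map_inv, k]; simp [mul_assoc, inv_eq_of_mul_eq_one_left u2, u2]
  obtain ⟨κ, σ, -, s, -, z', c'⟩ := P.b.rho
  obtain ⟨v, e⟩ := F.odd (σ ⟨_, nB h1⟩) (σ ⟨_, nB h2⟩)
    (by rw [← map_pow, show (⟨_, nB h1⟩ ^ 21 : 𝐍(B)) = 1 from Subtype.ext ((map_pow ι _ _).symm.trans (by rw [h3, map_one]; rfl)), map_one])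
    (by rw [← map_pow, show (⟨_, nB h2⟩ ^ 21 : 𝐍(B)) = 1 from Subtype.ext ((map_pow ι _ _).symm.trans (by rw [h4, map_one]; rfl)), map_one])
    (by rw [← map_mul, ← map_mul, show (_ * _ : 𝐍(B)) = 1 from Subtype.ext (by simpa using congrArg ι h5), map_one])
  have vB : κ v ∈ B := s.le ⟨v, rfl⟩
  have y2 : ι (x * y) * ι (x * y) = 1 := by rw [← map_mul, h5, map_one]
  by_cases b : ι l ∈ 𝐍(B)
  · have d : ι (x * y) ∈ 𝐂(B) := (mul_mem_cancel_right a).1 (w ▸ nK b a)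
    have y1 : ι (x * y) ≠ 1 := fun e => h6 (i (e.trans (map_one ι).symm))
    have f : Small.FourGen u (ι (x * y)) := ⟨u1, y1, fun e => ni ⟨x * y, by subst e; exact c _ _⟩, u2, y2, (cm h8).symm⟩
    exact ni ((P.exc F (f.card_four ▸ card_dvd_of_le (f.four_le_iff.2 ⟨⟨a, n⟩, d, le_normalizer (mA _)⟩))).1 _)
  · refine (P.b.pr b).inner F (u := ι l * u * (ι l)⁻¹) (cen_cj.2 (by simpa [mul_assoc] using a)) (by simp [u2])
      (by simpa using u1) vB ?_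
    rw [w, ← mul_assoc]
    exact mul_mem ((z' (⟨_, le_normalizer vB⟩⁻¹ * ⟨_, nB h8⟩)).1 (by
      rw [map_mul, map_inv, c', ← e, ← map_mul, inv_mul_eq_one]; exact congrArg σ (Subtype.ext (map_mul ι _ _).symm))) a

theorem not_four [IsSimpleGroup G] {L : Subgroup G} (hL : IsStandardSubgroup L) (F : Fx J) (e : J ≃* L) : ¬ 4 ∣ Nat.card 𝐂(L) := fun h => by
  have ti : ∀ x ∈ 𝐂(L), ∀ g, x * x = 1 → x ≠ 1 → g * x * g⁻¹ ∈ 𝐂(L) → g ∈ 𝐍(L) := fun x a g b c d => hL.2.2.2 ▸ by_contra fun n =>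
    (hL.2.1.2 g n).not_two_dvd_nat (orderOf_eq_prime (p := 2) (x := g * x * g⁻¹) (by simp [sq, b]) (by simpa using c) ▸
      orderOf_dvd_natCard _ (mem_inf.2 ⟨d, mem_map_of_mem _ a⟩))
  obtain ⟨j, j2, j1⟩ := F.inv
  have jK : (e j).1 ∉ 𝐂(L) := fun m => j1 (F.zen j fun b => e.injective (Subtype.ext (by simpa using (m _ (e b).2).symm)))
  have S : Sd J L := ⟨ti, fun g k => ?_, ⟨e⟩, h⟩
  swap
  · by_cases n : L.map (conj g).toMonoidHom = L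
    · obtain ⟨l, m, p⟩ := n.ge (e j).2
      exact jK (p ▸ k l m)
    · refine hL.2.2.1 g n (commutator_eq_bot_iff_le_centralizer.2 fun a m => ?_)
      rintro _ ⟨l, o, rfl⟩
      exact (k l o a m).symm
  obtain ⟨t, ht, t2, t1⟩ := ex_inv (Dvd.dvd.trans (by decide) h)
  have top : normalClosure (𝐂(L) : Set G) = ⊤ := (Normal.eq_bot_or_eq_top inferInstance).resolve_left fun p =>
    t1 (mem_bot.1 (p.le (subset_normalClosure ht)))
  have o : ∀ {u : G}, u * u = 1 → u ≠ 1 → orderOf u = 2 := fun p q => orderOf_eq_prime ((sq _).trans p) q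
  have l : ∀ g u, g ∉ 𝐍(L) → g⁻¹ * u * g ∈ 𝐂(L) → u * u = 1 → u ≠ 1 → u ∉ 𝐍(L) := fun g u n a b c d =>
    (S.pr n).false F (cen_cj.2 a) d b c
  rcases Agent.S1911.result _ hL.2.1 (fun g m => by_contra fun k => by
    obtain ⟨u, p, u2, u1⟩ := ex_inv (even_iff_two_dvd.1 (Nat.not_odd_iff_even.1 k))
    exact l g u (fun z => m (hL.2.2.2.le z)) (mem_cj.1 p.1) u2 u1 (hL.2.2.2.ge p.2)) with k | k
  · exact jK (by simpa using (normalClosure_le_normal (N := 𝐂(L)) subset_rfl) (top.ge (mem_top _)))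
  · have x2 : (e j).1 * (e j).1 = 1 := by simpa using congrArg (fun a => (e a).1) j2
    have x1 : (e j).1 ≠ 1 := fun z => jK (z ▸ one_mem _)
    obtain ⟨g, p⟩ := isConj_iff.1 (Inv.se_isConj k (s := ⟨t, subset_normalClosure ht⟩) (t := ⟨_, top.ge (mem_top (e j).1)⟩)
      ((orderOf_coe _).symm.trans (o t2 t1)) ((orderOf_coe _).symm.trans (o x2 x1)))
    replace p : g.1 * t * g.1⁻¹ = (e j).1 := congrArg Subtype.val p
    exact l g _ (fun m => jK (p ▸ nK m ht)) (by simpa [← p, mul_assoc] using ht) x2 x1 (le_normalizer (e j).2)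

theorem cyc [IsSimpleGroup G] {L : Subgroup G} (hL : IsStandardSubgroup L) (F : Fx J) (e : J ≃* L) (R : Sylow 2 𝐂(L)) :
    IsCyclic (R : Subgroup 𝐂(L)) := by
  have := Fact.mk Nat.prime_two
  obtain ⟨n, h⟩ := IsPGroup.iff_card.1 R.2
  refine isCyclic_of_card_dvd_prime (p := 2) (h ▸ (pow_dvd_pow 2 (show n ≤ 1 from by_contra fun l => not_four hL F e ?_)))
  exact (pow_dvd_pow 2 (show 2 ≤ n by omega)).trans (h ▸ card_subgroup_dvd_card _)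

end Cfsg.Lib.NC
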