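import Cfsg.Agent.Lib.NC.O8M

/-! # Involutions of `O₈⁺(2)` (generated by `tools/ncx.py`, helper10) -/

set_option autoImplicit false
set_option maxRecDepth 1000000

namespace Cfsg.Lib.NC.O8

open Cfsg.Lib.Calc Cfsg.Lib.Grp Cfsg.Lib.T2 Cfsg.Lib.T3 Subgroup

variable {G : Type*} [Group G] {γ : ℕ → G} {M Y : Subgroup G}

/-- classes of involutions -/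
def cls_t : DT := .node (cmF 99 (.l 22))
  (.node (cmF 99 (.l 10))
  (.node (cmF 99 (.l 11))
  (.node (cmF 99 (.l 21))
  (.node (cmF 99 (.l 18))
  (.node (cmF 99 (.l 9))
  (.leaf (.l 99) (wl [8, 7, 1, 3, 4, 5, 6, 2, 4, 5, 3, 4, 1, 3, 2, 4, 5, 6, 7, 8, 6, 5, 4, 1, 3, 2, 4, 5, 6, 7, 1, 3, 2, 4, 5, 6, 3, 2, 4, 5, 3, 2, 4, 1]) 20 (.leaf (.l 99) (.l 0) 17 (.leaf (.l 99) (wl [6, 7, 5, 6, 4, 5, 2, 4]) 20 .nil)))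
  (.node (cmF 99 (.l 12))
  (.leaf (.l 99) (wl [1, 3, 4, 5, 6, 7, 2, 4, 5, 6, 3, 1]) 17 (.leaf (.l 99) (wl [4, 1, 3, 2, 4, 5, 6, 7, 1, 3, 2, 4, 5, 6, 3, 1]) 17 .nil))
  (.leaf (.l 99) (wl [6, 5, 4, 3, 2, 4, 5, 6, 4, 3, 2, 4]) 22 (.leaf (.l 99) (wl [6, 7, 5, 6, 4, 3, 2, 4]) 22 .nil))))
  (.leaf (.l 99) (wl [7, 8, 1, 3, 4, 5, 6, 7, 2, 4, 5, 6, 3, 4, 5, 2, 4, 1]) 20 (.leaf (.l 99) (wl [6, 5, 4, 3, 2, 4, 5, 6, 7, 8, 6, 5, 4, 1, 3, 2, 4, 5, 6, 7, 1, 3, 2, 4, 5, 6, 3, 2, 4, 5, 3, 2, 4, 1]) 20 (.leaf (.l 99) (wl [8, 1, 3, 4, 5, 6, 7, 2, 4, 5, 6, 3, 1]) 17 (.leaf (.l 99) (wl [8, 4, 1, 3, 2, 4, 5, 6, 7, 1, 3, 2, 4, 5, 6, 3, 1]) 17 .nil)))))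
  (.node (cmF 99 (.l 9))
  (.leaf (.l 99) (wl [1, 3, 4, 5, 6, 7, 2, 4, 5, 6, 3, 4, 5, 2, 4, 1]) 19 (.leaf (.l 99) (wl [8, 7, 6, 5, 4, 3, 2, 4, 5, 6, 7, 8, 1, 3, 4, 5, 6, 7, 2, 4, 5, 6, 3, 4, 5, 2, 4, 1]) 19 (.leaf (.l 99) (wl [6, 7, 8, 5, 6, 7, 1, 3, 4, 5, 6, 2, 4, 5, 3, 4, 1, 3, 2, 4, 5, 6, 7, 8, 6, 4, 5, 3, 4, 1, 3, 2, 4, 5, 6, 7, 3, 4, 1, 3, 2, 4, 5, 6, 3, 4, 5, 1, 3, 4, 3, 1]) 23 (.leaf (.l 99) (wl [6, 7, 8, 5, 6, 7, 1, 3, 4, 5, 6, 2, 4, 5, 3, 4, 1, 3, 2, 4, 5, 6, 7, 8, 6, 4, 5, 3, 4, 1, 3, 2, 4, 5, 6, 7, 3, 4, 1, 3, 2, 4, 5, 6, 5, 4, 3, 1]) 23 .nil))))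
  (.node (cmF 99 (.l 18))
  (.node (cmF 99 (wl [9, 21]))
  (.leaf (.l 99) (wl [6, 7, 5, 6, 4, 5, 3, 4]) 19 (.leaf (.l 99) (wl [6, 7, 8, 5, 6, 7, 1, 3, 4, 5, 6, 2, 4, 5, 3, 4, 1, 3, 2, 4, 5, 6, 7, 8, 6, 4, 5, 3, 4, 1, 3, 2, 4, 5, 6, 7, 3, 4, 1, 3, 2, 4, 5, 6, 2, 4, 3, 1]) 23 (.leaf (.l 99) (wl [6, 7, 8, 5, 6, 7, 1, 3, 4, 5, 6, 2, 4, 5, 3, 4, 1, 3, 2, 4, 5, 6, 7, 8, 6, 4, 5, 3, 4, 1, 3, 2, 4, 5, 6, 7, 5, 4, 1, 3, 2, 4, 5, 6, 2, 4, 3, 1]) 23 (.leaf (.l 99) (wl [6, 7, 5, 6, 4, 5, 2, 4]) 19 .nil))))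
  (.leaf (.l 99) (wl [1, 3, 4, 5, 6, 7, 2, 4, 5, 6, 3, 4, 5, 2, 4, 1]) 20 (.leaf (.l 99) (wl [8, 7, 6, 5, 4, 3, 2, 4, 5, 6, 7, 8, 1, 3, 4, 5, 6, 7, 2, 4, 5, 6, 3, 4, 5, 2, 4, 1]) 20 (.leaf (.l 99) (wl [6, 5, 4, 1, 3, 2, 4, 5, 6, 7, 1, 3, 2, 4, 5, 6, 3, 2, 4, 5, 3, 2, 4, 1]) 20 (.leaf (.l 99) (wl [8, 7, 6, 5, 4, 3, 2, 4, 5, 6, 7, 8, 6, 5, 4, 1, 3, 2, 4, 5, 6, 7, 1, 3, 2, 4, 5, 6, 3, 2, 4, 5, 3, 2, 4, 1]) 20 (.leaf (.l 99) (wl [1, 3, 4, 5, 2, 4, 3, 1]) 20 (.leaf (.l 99) (wl [1, 3, 4, 5, 6, 7, 2, 4, 5, 6, 4, 5, 2, 4, 3, 1]) 23 (.leaf (.l 99) (wl [6, 5, 4, 3, 2, 4, 5, 6, 1, 3, 4, 5, 3, 4, 1, 3, 2, 4, 3, 1]) 22 (.leaf (.l 99) (wl [8, 7, 6, 5, 4, 3, 2, 4, 5, 6, 7, 8, 6, 5, 4, 1,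 3, 2, 4, 5, 6, 7, 1, 3, 2, 4, 5, 6, 5, 4, 3, 1]) 23 (.leaf (.l 99) (wl [1, 3, 4, 5, 6, 7, 2, 4, 5, 6, 3, 4, 5, 1, 3, 4]) 23 (.leaf (.l 99) (wl [8, 7, 6, 5, 4, 3, 2, 4, 5, 6, 7, 8, 6, 4, 5, 3, 4, 1, 3, 2, 4, 5, 6, 7, 3, 4, 1, 3, 2, 4, 5, 6, 3, 4, 5, 1, 3, 4, 3, 1]) 23 (.leaf (.l 99) (wl [4, 1, 3, 2, 4, 5, 1, 3, 2, 4, 3, 1]) 20 (.leaf (.l 99) (wl [8, 7, 6, 5, 4, 3, 2, 4, 5, 6, 7, 8, 6, 4, 5, 3, 4, 1, 3, 2, 4, 5, 6, 7, 3, 4, 1, 3, 2, 4, 5, 6, 5, 4, 3, 1]) 23 (.leaf (.l 99) (wl [6, 5, 4, 3, 2, 4, 5, 6, 1, 3, 4, 5, 2, 4, 3, 1]) 22 (.leaf (.l 99) (wl [4, 1, 3, 2, 4, 5, 6, 7, 1, 3, 2, 4, 5, 6, 4, 5, 2, 4, 3, 1]) 23 (.leaf (.l 99) (wl [4, 1, 3, 2, 4, 5, 6, 7, 1, 3, 2, 4, 5, 6, 3,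 4, 5, 1, 3, 4]) 23 (.leaf (.l 99) (wl [8, 7, 6, 5, 4, 3, 2, 4, 5, 6, 7, 8, 6, 5, 4, 1, 3, 2, 4, 5, 6, 7, 1, 3, 2, 4, 5, 6, 3, 4, 5, 1, 3, 4, 3, 1]) 23 .nil)))))))))))))))))
  (.leaf (.l 99) (wl [8, 1, 3, 4, 5, 6, 7, 2, 4, 5, 6, 3, 4, 5, 2, 4, 1]) 20 (.leaf (.l 99) (wl [7, 6, 5, 4, 3, 2, 4, 5, 6, 7, 8, 6, 5, 4, 1, 3, 2, 4, 5, 6, 7, 1, 3, 2, 4, 5, 6, 3, 2, 4, 5, 3, 2, 4, 1]) 20 (.leaf (.l 99) (wl [7, 8, 1, 3, 4, 5, 6, 7, 2, 4, 5, 6, 3, 1]) 17 (.leaf (.l 99) (wl [7, 8, 4, 1, 3, 2, 4, 5, 6, 7, 1, 3, 2, 4, 5, 6, 3, 1]) 17 .nil)))))))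
  (.node (cmF 99 (.l 9))
  (.node (cmF 99 (.l 21))
  (.node (cmF 99 (.l 12))
  (.leaf (.l 99) (wl [6, 7, 5, 6]) 17 (.leaf (.l 99) (wl [4, 5, 6, 7, 2, 4, 5, 6]) 17 .nil))
  (.leaf (.l 99) (wl [4, 5, 2, 4]) 20 (.leaf (.l 99) (.l 0) 20 .nil)))
  (.leaf (.l 99) (wl [8, 7, 1, 3, 4, 5, 6, 2, 4, 5, 3, 4, 1, 3, 2, 4, 5, 6, 7, 8, 6, 4, 5, 3, 4, 1, 3, 2, 4, 5, 6, 7, 3, 4, 1, 3, 2, 4, 5, 6, 3, 4, 5, 1, 3, 4, 3, 1]) 23 (.leaf (.l 99) (wl [8, 7, 1, 3, 4, 5, 6, 2, 4, 5, 3, 4, 1, 3, 2, 4, 5, 6, 7, 8, 6, 4, 5, 3, 4, 1, 3, 2, 4, 5, 6, 7, 3, 4, 1, 3, 2, 4, 5, 6, 5, 4, 3, 1]) 23 (.leaf (.l 99) (wl [8, 7, 1, 3, 4, 5, 6, 2, 4, 5, 3, 4, 1, 3, 2, 4, 5, 6, 7, 8, 6, 5, 4, 1, 3, 2, 4, 5, 6, 7, 1, 3,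 2, 4, 5, 6, 5, 4, 3, 1]) 23 (.leaf (.l 99) (wl [8, 7, 1, 3, 4, 5, 6, 2, 4, 5, 3, 4, 1, 3, 2, 4, 5, 6, 7, 8, 6, 5, 4, 1, 3, 2, 4, 5, 6, 7, 1, 3, 2, 4, 5, 6, 3, 4, 5, 1, 3, 4, 3, 1]) 23 (.leaf (.l 99) (.l 0) 19 (.leaf (.l 99) (wl [1, 3, 4, 5, 6, 7, 3, 4, 1, 3, 2, 4, 5, 6, 4, 3, 2, 4, 5, 1, 3, 4, 3, 1]) 20 (.leaf (.l 99) (wl [8, 7, 1, 3, 4, 5, 6, 2, 4, 5, 3, 4, 1, 3, 2, 4, 5, 6, 7, 8, 6, 5, 4, 1, 3, 2, 4, 5, 6, 7, 1, 3, 2, 4, 5, 6, 2, 4, 3, 1]) 23 (.leaf (.l 99) (wl [8, 7, 6, 5, 4, 3, 2, 4, 5, 6, 7, 8, 4, 1, 3, 2, 4, 5, 6, 7, 4, 3, 2, 4, 5, 6, 4, 3, 2, 4, 5, 1, 3, 4, 3, 1]) 20 (.leaf (.l 99) (wl [4, 3, 2, 4]) 23 (.leaf (.l 99) (wl [6, 5, 4, 1, 3, 2, 4, 5, 6, 7, 6, 5, 4, 3, 2,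 4, 5, 6, 4, 5, 3, 4, 1, 3, 2, 4, 3, 1]) 22 (.leaf (.l 99) (wl [6, 7, 5, 6]) 23 (.leaf (.l 99) (wl [1, 3, 4, 5, 6, 7, 3, 4, 1, 3, 2, 4, 5, 6, 4, 5, 3, 4, 1, 3, 2, 4, 3, 1]) 22 (.leaf (.l 99) (.l 0) 23 (.leaf (.l 99) (wl [4, 1, 3, 2, 4, 5, 6, 7, 4, 3, 2, 4, 5, 6, 4, 5, 3, 4, 1, 3, 2, 4, 3, 1]) 22 (.leaf (.l 99) (wl [6, 7, 5, 6, 4, 3, 2, 4]) 23 (.leaf (.l 99) (wl [1, 3, 4, 5, 6, 7, 5, 6, 4, 5, 3, 4, 1, 3, 2, 4, 5, 6, 4, 5, 3, 4, 1, 3, 2, 4, 3, 1]) 22 (.leaf (.l 99) (wl [4, 3, 2, 4]) 19 (.leaf (.l 99) (wl [8, 7, 6, 5, 4, 3, 2, 4, 5, 6, 7, 8, 1, 3, 4, 5, 6, 7, 3, 4, 1, 3, 2, 4, 5, 6, 4, 3, 2, 4, 5, 1, 3, 4, 3, 1]) 20 (.leaf (.l 99) (wl [8, 7, 1, 3, 4, 5, 6, 2, 4, 5, 3, 4, 1, 3,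 2, 4, 5, 6, 7, 8, 6, 5, 4, 1, 3, 2, 4, 5, 6, 7, 6, 5, 4, 3, 2, 4, 5, 6, 3, 1]) 23 (.leaf (.l 99) (wl [4, 1, 3, 2, 4, 5, 6, 7, 4, 3, 2, 4, 5, 6, 4, 3, 2, 4, 5, 1, 3, 4, 3, 1]) 20 .nil)))))))))))))))))))))
  (.node (cmF 99 (.l 18))
  (.node (cmF 99 (wl [9, 21]))
  (.leaf (.l 99) (wl [4, 5, 6, 7, 2, 4, 5, 6, 4, 5, 3, 4]) 23 (.leaf (.l 99) (wl [6, 7, 5, 6, 4, 5, 2, 4]) 23 (.leaf (.l 99) (wl [6, 7, 5, 6, 4, 5, 3, 4]) 23 (.leaf (.l 99) (wl [4, 5, 6, 7, 2, 4, 5, 6, 4, 5, 2, 4]) 23 (.leaf (.l 99) (wl [4, 5, 3, 4]) 19 (.leaf (.l 99) (wl [8, 7, 1, 3, 4, 5, 6, 2, 4, 5, 3, 4, 1, 3, 2, 4, 5, 6, 7, 8, 6, 4, 5, 3, 4, 1, 3, 2, 4, 5, 6, 7, 3, 4, 1, 3, 2, 4, 5, 6, 2, 4, 3, 1]) 23 (.leaf (.l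 99) (wl [4, 5, 6, 7, 3, 4, 5, 6, 1, 3, 4, 5, 2, 4, 3, 1]) 20 (.leaf (.l 99) (wl [4, 5, 6, 7, 2, 4, 5, 6, 1, 3, 4, 5, 3, 4, 1, 3, 2, 4, 3, 1]) 22 (.leaf (.l 99) (wl [4, 5, 2, 4]) 23 (.leaf (.l 99) (wl [4, 5, 6, 7, 3, 4, 5, 6]) 23 (.leaf (.l 99) (wl [4, 5, 6, 7, 3, 4, 5, 6, 1, 3, 4, 5, 2, 4, 3, 1]) 22 (.leaf (.l 99) (wl [4, 5, 6, 7, 2, 4, 5, 6, 4, 1, 3, 2, 4, 5, 1, 3, 2, 4, 3, 1]) 20 (.leaf (.l 99) (wl [4, 5, 3, 4]) 23 (.leaf (.l 99) (wl [4, 5, 6, 7, 2, 4, 5, 6]) 23 (.leaf (.l 99) (wl [4, 5, 6, 7, 2, 4, 5, 6, 1, 3, 4, 5, 2, 4, 3, 1]) 22 (.leaf (.l 99) (wl [4, 5, 6, 7, 3, 4, 5, 6, 4, 1, 3, 2, 4, 5, 1, 3, 2, 4, 3, 1]) 20 (.leaf (.l 99) (wl [4, 5, 2, 4]) 19 (.leaf (.l 99) (wl [8,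 7, 1, 3, 4, 5, 6, 2, 4, 5, 3, 4, 1, 3, 2, 4, 5, 6, 7, 8, 6, 4, 5, 3, 4, 1, 3, 2, 4, 5, 6, 7, 5, 4, 1, 3, 2, 4, 5, 6, 2, 4, 3, 1]) 23 (.leaf (.l 99) (wl [4, 5, 6, 7, 2, 4, 5, 6, 1, 3, 4, 5, 2, 4, 3, 1]) 20 (.leaf (.l 99) (wl [4, 5, 6, 7, 3, 4, 5, 6, 1, 3, 4, 5, 3, 4, 1, 3, 2, 4, 3, 1]) 22 .nil))))))))))))))))))))
  (.node (cmF 99 (.l 12))
  (.node (cmF 99 (.l 21))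
  (.leaf (.l 99) (wl [6, 4, 5, 3, 4, 1, 3, 2, 4, 5, 6, 7, 3, 4, 1, 3, 2, 4, 5, 6, 2, 4, 3, 1]) 17 (.leaf (.l 99) (wl [6, 5, 4, 1, 3, 2, 4, 5, 6, 7, 1, 3, 2, 4, 5, 6, 2, 4, 3, 1]) 17 .nil))
  (.leaf (.l 99) (wl [6, 7, 5, 6, 1, 3, 4, 5, 2, 4, 3, 1]) 20 (.leaf (.l 99) (wl [6, 7, 5, 6, 1, 3, 4, 5, 2, 4, 3, 1]) 22 (.leaf (.l 99) (wl [6, 7, 5, 6, 4, 1, 3, 2, 4, 5, 1, 3, 2, 4, 3, 1]) 20 (.leaf (.l 99) (wl [6, 7, 5, 6, 1, 3, 4, 5, 3, 4, 1, 3, 2, 4, 3, 1]) 22 (.leaf (.l 99) (wl [1, 3, 4, 5, 6, 7, 2, 4, 5, 6, 4, 3, 2, 4, 5, 1, 3, 4, 3, 1]) 20 (.leaf (.l 99) (wl [1, 3, 4, 5, 6, 7, 2, 4, 5, 6, 4, 5, 3, 4, 1, 3, 2, 4, 3, 1]) 22 (.leaf (.l 99) (wl [6, 7, 1, 3, 4, 5, 6, 2, 4, 5, 3, 4, 1,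 3, 2, 4, 5, 6, 3, 4, 1, 3, 2, 4]) 22 (.leaf (.l 99) (wl [8, 7, 6, 5, 4, 3, 2, 4, 5, 6, 7, 8, 4, 1, 3, 2, 4, 5, 6, 7, 1, 3, 2, 4, 5, 6, 4, 3, 2, 4, 5, 1, 3, 4, 3, 1]) 20 .nil)))))))))
  (.node (cmF 99 (wl [11, 21]))
  (.leaf (.l 99) (wl [1, 3, 4, 5, 6, 2, 4, 5, 3, 4, 1, 3, 2, 4, 5, 6, 1, 3, 4, 5, 3, 4, 1, 3, 2, 4, 3, 1]) 22 (.leaf (.l 99) (wl [1, 3, 4, 5, 6, 7, 2, 4, 5, 6, 3, 4, 1, 3, 2, 4]) 22 (.leaf (.l 99) (wl [1, 3, 4, 5, 6, 7, 3, 4, 1, 3, 2, 4, 5, 6, 3, 4, 1, 3, 2, 4]) 22 (.leaf (.l 99) (wl [6, 5, 4, 1, 3, 2, 4, 5, 6, 7, 1, 3, 2, 4, 5, 6, 3, 4, 1, 3, 2, 4, 3, 1]) 22 (.leaf (.l 99) (wl [6, 5, 4, 3, 2, 4, 5, 6, 1, 3, 4, 5, 2, 4, 3, 1]) 20 (.leaf (.l 99) (wl [1, 3, 4, 5,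 3, 4, 1, 3, 2, 4, 3, 1]) 22 (.leaf (.l 99) (wl [6, 5, 4, 3, 2, 4, 5, 6, 4, 1, 3, 2, 4, 5, 1, 3, 2, 4, 3, 1]) 20 (.leaf (.l 99) (wl [1, 3, 4, 5, 2, 4, 3, 1]) 22 .nil))))))))
  (.node (cmF 99 (wl [12, 21]))
  (.leaf (.l 99) (wl [6, 7, 4, 3, 2, 4, 5, 6, 1, 3, 4, 5, 3, 4, 1, 3, 2, 4, 3, 1]) 22 (.leaf (.l 99) (wl [6, 7, 4, 3, 2, 4, 5, 6, 4, 1, 3, 2, 4, 5, 1, 3, 2, 4, 3, 1]) 20 (.leaf (.l 99) (wl [6, 7, 4, 3, 2, 4, 5, 6, 1, 3, 4, 5, 2, 4, 3, 1]) 22 (.leaf (.l 99) (wl [6, 7, 4, 3, 2, 4, 5, 6, 1, 3, 4, 5, 2, 4, 3, 1]) 20 (.leaf (.l 99) (wl [8, 7, 6, 5, 4, 3, 2, 4, 5, 6, 7, 8, 1, 3, 4, 5, 6, 7, 2, 4, 5, 6, 4, 3, 2, 4, 5, 1, 3, 4, 3, 1]) 20 (.leaf (.l 99) (wl [6, 7, 1, 3, 4, 5, 6, 2,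 4, 5, 3, 4, 1, 3, 2, 4, 5, 6, 4, 5, 3, 4, 1, 3, 2, 4, 3, 1]) 22 (.leaf (.l 99) (wl [4, 1, 3, 2, 4, 5, 6, 7, 1, 3, 2, 4, 5, 6, 4, 5, 3, 4, 1, 3, 2, 4, 3, 1]) 22 (.leaf (.l 99) (wl [4, 1, 3, 2, 4, 5, 6, 7, 1, 3, 2, 4, 5, 6, 4, 3, 2, 4, 5, 1, 3, 4, 3, 1]) 20 .nil))))))))
  (.node (cmF 99 (.l 21))
  (.leaf (.l 99) (.l 0) 22 (.leaf (.l 99) (wl [4, 3, 2, 4]) 22 .nil))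
  (.leaf (.l 99) (wl [1, 3, 4, 5, 6, 7, 2, 4, 5, 6, 3, 1]) 23 (.leaf (.l 99) (wl [8, 7, 6, 5, 4, 3, 2, 4, 5, 6, 7, 8, 4, 1, 3, 2, 4, 5, 6, 7, 1, 3, 2, 4, 5, 6, 3, 1]) 23 (.leaf (.l 99) (wl [6, 4, 5, 3, 4, 1, 3, 2, 4, 5, 6, 7, 3, 4, 1, 3, 2, 4, 5, 6, 2, 4, 3, 1]) 23 (.leaf (.l 99) (wl [8, 7, 6, 5, 4, 3, 2, 4, 5, 6, 7, 8, 6, 5, 4, 1, 3, 2, 4, 5, 6, 7, 1, 3, 2, 4, 5, 6, 2, 4, 3, 1]) 23 (.leaf (.l 99) (wl [8, 7, 6, 5, 4, 3, 2, 4, 5, 6, 7, 8, 6, 4, 5, 3, 4, 1, 3, 2, 4, 5, 6, 7, 3, 4, 1, 3, 2, 4, 5, 6, 2, 4, 3, 1]) 23 (.leaf (.l 99) (wl [6, 5, 4, 1, 3, 2, 4, 5, 6, 7, 1, 3, 2, 4, 5, 6, 2, 4, 3, 1]) 23 (.leaf (.l 99) (wl [8, 7, 6, 5, 4, 3, 2, 4, 5, 6, 7, 8, 1, 3, 4, 5, 6, 7, 2, 4,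 5, 6, 3, 1]) 23 (.leaf (.l 99) (wl [4, 1, 3, 2, 4, 5, 6, 7, 1, 3, 2, 4, 5, 6, 3, 1]) 23 (.leaf (.l 99) (wl [6, 5, 4, 1, 3, 2, 4, 5, 6, 7, 1, 3, 2, 4, 5, 6, 5, 4, 3, 1]) 23 (.leaf (.l 99) (wl [8, 7, 6, 5, 4, 3, 2, 4, 5, 6, 7, 8, 1, 3, 4, 5, 6, 7, 2, 4, 5, 6, 4, 5, 2, 4, 3, 1]) 23 (.leaf (.l 99) (wl [8, 7, 6, 5, 4, 3, 2, 4, 5, 6, 7, 8, 1, 3, 4, 5, 6, 7, 2, 4, 5, 6, 3, 4, 5, 1, 3, 4]) 23 (.leaf (.l 99) (wl [6, 4, 5, 3, 4, 1, 3, 2, 4, 5, 6, 7, 3, 4, 1, 3, 2, 4, 5, 6, 3, 4, 5, 1, 3, 4, 3, 1]) 23 (.leaf (.l 99) (wl [8, 7, 6, 5, 4, 3, 2, 4, 5, 6, 7, 8, 4, 1, 3, 2, 4, 5, 6, 7, 1, 3, 2, 4, 5, 6, 4, 5, 2, 4, 3, 1]) 23 (.leaf (.l 99) (wl [6, 4, 5, 3, 4, 1, 3, 2, 4, 5, 6, 7, 3, 4, 1,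 3, 2, 4, 5, 6, 5, 4, 3, 1]) 23 (.leaf (.l 99) (wl [8, 7, 6, 5, 4, 3, 2, 4, 5, 6, 7, 8, 4, 1, 3, 2, 4, 5, 6, 7, 1, 3, 2, 4, 5, 6, 3, 4, 5, 1, 3, 4]) 23 (.leaf (.l 99) (wl [6, 5, 4, 1, 3, 2, 4, 5, 6, 7, 1, 3, 2, 4, 5, 6, 3, 4, 5, 1, 3, 4, 3, 1]) 23 (.leaf (.l 99) (wl [1, 3, 4, 5, 6, 7, 3, 4, 1, 3, 2, 4, 5, 6, 3, 1]) 23 (.leaf (.l 99) (wl [8, 7, 6, 5, 4, 3, 2, 4, 5, 6, 7, 8, 1, 3, 4, 5, 6, 7, 3, 4, 1, 3, 2, 4, 5, 6, 3, 1]) 23 (.leaf (.l 99) (wl [6, 5, 4, 1, 3, 2, 4, 5, 6, 7, 6, 5, 4, 3, 2, 4, 5, 6, 3, 1]) 23 (.leaf (.l 99) (wl [8, 7, 6, 5, 4, 3, 2, 4, 5, 6, 7, 8, 6, 5, 4, 1, 3, 2, 4, 5, 6, 7, 6, 5, 4, 3, 2, 4, 5, 6, 3, 1]) 23 (.leaf (.l 99) (wl [8, 7, 6, 5, 4, 3, 2, 4, 5, 6,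 7, 8, 6, 4, 5, 3, 4, 1, 3, 2, 4, 5, 6, 7, 5, 4, 1, 3, 2, 4, 5, 6, 2, 4, 3, 1]) 23 (.leaf (.l 99) (wl [6, 4, 5, 3, 4, 1, 3, 2, 4, 5, 6, 7, 5, 4, 1, 3, 2, 4, 5, 6, 2, 4, 3, 1]) 23 (.leaf (.l 99) (wl [8, 7, 6, 5, 4, 3, 2, 4, 5, 6, 7, 8, 4, 1, 3, 2, 4, 5, 6, 7, 4, 3, 2, 4, 5, 6, 3, 1]) 23 (.leaf (.l 99) (wl [4, 1, 3, 2, 4, 5, 6, 7, 4, 3, 2, 4, 5, 6, 3, 1]) 23 .nil)))))))))))))))))))))))))))))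
  (.node (cmF 99 (wl [11, 18]))
  (.node (cmF 99 (.l 21))
  (.leaf (.l 99) (wl [6, 5, 4, 3, 2, 4, 5, 6, 7, 8, 1, 3, 4, 5, 6, 7, 2, 4, 5, 6, 3, 4, 1, 3, 2, 4]) 22 (.leaf (.l 99) (wl [7, 8, 6, 5, 4, 1, 3, 2, 4, 5, 6, 7, 1, 3, 2, 4, 5, 6, 3, 4, 1, 3, 2, 4, 3, 1]) 22 (.leaf (.l 99) (.l 8) 22 (.leaf (.l 99) (wl [8, 4, 3, 2, 4]) 22 .nil))))
  (.leaf (.l 99) (wl [7, 6, 5, 4, 3, 2, 4, 5, 6, 7, 8, 1, 3, 4, 5, 6, 7, 2, 4, 5, 6, 3, 4, 1, 3, 2, 4]) 22 (.leaf (.l 99) (wl [8, 6, 5, 4, 1, 3, 2, 4, 5, 6, 7, 1, 3, 2, 4, 5, 6, 3, 4, 1, 3, 2, 4, 3, 1]) 22 (.leaf (.l 99) (wl [7, 8]) 22 (.leaf (.l 99) (wl [7, 8, 4, 3, 2, 4]) 22 .nil)))))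
  (.leaf (.l 99) (wl [8, 1, 3, 4, 5, 6, 7, 2, 4, 5, 6, 3, 1]) 23 (.leaf (.l 99) (wl [7, 6, 5, 4, 3, 2, 4, 5, 6, 7, 8, 6, 5, 4, 1, 3, 2, 4, 5, 6, 7, 1, 3, 2, 4, 5, 6, 2, 4, 3, 1]) 23 (.leaf (.l 99) (wl [7, 8, 1, 3, 4, 5, 6, 7, 2, 4, 5, 6, 3, 1]) 23 (.leaf (.l 99) (wl [6, 5, 4, 3, 2, 4, 5, 6, 7, 8, 6, 5, 4, 1, 3, 2, 4, 5, 6, 7, 1, 3, 2, 4, 5, 6, 2, 4, 3, 1]) 23 (.leaf (.l 99) (wl [7, 6, 5, 4, 3, 2, 4, 5, 6, 7, 8, 6, 4, 5, 3, 4, 1, 3, 2, 4, 5, 6, 7, 3, 4, 1, 3, 2, 4, 5, 6, 2, 4, 3, 1]) 23 (.leaf (.l 99) (wl [8, 4, 1, 3, 2, 4, 5, 6, 7, 1, 3, 2, 4, 5, 6, 3, 1]) 23 (.leaf (.l 99) (wl [6, 5, 4, 3, 2, 4, 5, 6, 7, 8, 6, 4, 5, 3, 4, 1, 3, 2, 4, 5, 6, 7, 3, 4, 1, 3, 2, 4, 5, 6, 2, 4,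 3, 1]) 23 (.leaf (.l 99) (wl [7, 8, 4, 1, 3, 2, 4, 5, 6, 7, 1, 3, 2, 4, 5, 6, 3, 1]) 23 (.leaf (.l 99) (wl [8, 1, 3, 4, 5, 6, 7, 3, 4, 1, 3, 2, 4, 5, 6, 3, 1]) 23 (.leaf (.l 99) (wl [7, 6, 5, 4, 3, 2, 4, 5, 6, 7, 8, 6, 5, 4, 1, 3, 2, 4, 5, 6, 7, 6, 5, 4, 3, 2, 4, 5, 6, 3, 1]) 23 (.leaf (.l 99) (wl [7, 8, 1, 3, 4, 5, 6, 7, 3, 4, 1, 3, 2, 4, 5, 6, 3, 1]) 23 (.leaf (.l 99) (wl [6, 5, 4, 3, 2, 4, 5, 6, 7, 8, 6, 5, 4, 1, 3, 2, 4, 5, 6, 7, 6, 5, 4, 3, 2, 4, 5, 6, 3, 1]) 23 (.leaf (.l 99) (wl [7, 6, 5, 4, 3, 2, 4, 5, 6, 7, 8, 6, 4, 5, 3, 4, 1, 3, 2, 4, 5, 6, 7, 5, 4, 1, 3, 2, 4, 5, 6, 2, 4, 3, 1]) 23 (.leaf (.l 99) (wl [8, 4, 1, 3, 2, 4, 5, 6, 7, 4, 3, 2, 4, 5, 6, 3, 1]) 23 (.leaf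 (.l 99) (wl [6, 5, 4, 3, 2, 4, 5, 6, 7, 8, 6, 4, 5, 3, 4, 1, 3, 2, 4, 5, 6, 7, 5, 4, 1, 3, 2, 4, 5, 6, 2, 4, 3, 1]) 23 (.leaf (.l 99) (wl [7, 8, 4, 1, 3, 2, 4, 5, 6, 7, 4, 3, 2, 4, 5, 6, 3, 1]) 23 .nil))))))))))))))))))))
  (.node (cmF 99 (.l 21))
  (.node (cmF 99 (wl [18, 20]))
  (.node (cmF 99 (.l 11))
  (.node (cmF 99 (.l 18))
  (.node (cmF 99 (.l 9))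
  (.node (cmF 99 (.l 12))
  (.leaf (.l 99) (wl [8, 6, 7, 4, 5, 6]) 17 (.leaf (.l 99) (wl [8, 5, 6, 7, 2, 4, 5, 6]) 17 .nil))
  (.leaf (.l 99) (wl [7, 8, 5, 6, 7, 2, 4, 5, 6]) 17 (.leaf (.l 99) (wl [7, 8, 6, 7, 4, 5, 6]) 17 .nil)))
  (.node (cmF 99 (.l 12))
  (.leaf (.l 99) (wl [7, 5]) 21 (.leaf (.l 99) (wl [7, 2]) 21 .nil))
  (.leaf (.l 99) (.l 2) 21 (.leaf (.l 99) (.l 5) 21 .nil))))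
  (.leaf (.l 99) (wl [8, 6, 5, 4, 3, 2, 4, 5, 6, 1, 3, 4, 5, 4, 1, 3, 2, 4, 3, 1]) 22 (.leaf (.l 99) (wl [7, 8, 6, 5, 4, 3, 2, 4, 5, 6, 1, 3, 4, 5, 3, 2, 4, 3, 1]) 22 (.leaf (.l 99) (wl [8, 6, 5, 4, 3, 2, 4, 5, 6, 1, 3, 4, 5, 3, 2, 4, 3, 1]) 22 (.leaf (.l 99) (wl [7, 8, 6, 5, 4, 3, 2, 4, 5, 6, 1, 3, 4, 5, 4, 1, 3, 2, 4, 3, 1]) 22 (.leaf (.l 99) (wl [6, 5, 4, 3, 2, 4, 5, 6, 1, 3, 2, 4, 5, 1, 3, 2, 4, 3, 1]) 20 (.leaf (.l 99) (wl [1, 3, 4, 5, 3, 2, 4, 3, 1]) 22 (.leaf (.l 99) (wl [6, 5, 4, 3, 2, 4, 5, 6, 1, 3, 4, 5, 3, 2, 4, 3, 1]) 20 (.leaf (.l 99) (wl [1, 3, 4, 5, 4, 1, 3, 2, 4, 3, 1]) 22 .nil)))))))))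
  (.node (cmF 99 (.l 18))
  (.node (cmF 99 (.l 9))
  (.node (cmF 99 (.l 12))
  (.leaf (.l 99) (wl [7, 8, 6, 7, 2, 4, 5, 6]) 17 (.leaf (.l 99) (wl [7, 8, 5, 6, 7, 4, 5, 6]) 17 .nil))
  (.leaf (.l 99) (wl [8, 5, 6, 7, 4, 5, 6]) 17 (.leaf (.l 99) (wl [8, 6, 7, 2, 4, 5, 6]) 17 .nil)))
  (.node (cmF 99 (.l 12))
  (.leaf (.l 99) (.l 0) 21 (.leaf (.l 99) (wl [5, 2]) 21 .nil))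
  (.leaf (.l 99) (wl [7, 5, 2]) 21 (.leaf (.l 99) (.l 7) 21 .nil))))
  (.leaf (.l 99) (wl [3, 4]) 22 (.leaf (.l 99) (wl [6, 5, 4, 1, 3, 2, 4, 5, 6, 7, 3, 4, 1, 3, 2, 4, 5, 6, 2, 4, 3, 1]) 17 (.leaf (.l 99) (wl [6, 5, 3, 4, 1, 3, 2, 4, 5, 6, 7, 4, 1, 3, 2, 4, 5, 6, 2, 4, 3, 1]) 17 (.leaf (.l 99) (wl [2, 4]) 22 (.leaf (.l 99) (wl [7, 2, 4, 2]) 21 (.leaf (.l 99) (wl [3, 4, 2]) 21 (.leaf (.l 99) (wl [2, 4, 2]) 21 (.leaf (.l 99) (wl [7, 3, 4, 2]) 21 .nil))))))))))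
  (.node (cmF 99 (.l 11))
  (.node (cmF 99 (.l 18))
  (.leaf (.l 99) (wl [8, 6, 7, 2, 4, 5, 6, 4, 3, 2, 4]) 22 (.leaf (.l 99) (wl [8, 6, 7, 3, 4, 5, 6, 4, 3, 2, 4]) 22 (.leaf (.l 99) (wl [8, 7, 2, 4]) 21 (.leaf (.l 99) (wl [8, 7, 3, 4]) 21 (.leaf (.l 99) (wl [7, 8, 6, 7, 4, 5, 6, 4, 3, 2, 4]) 22 (.leaf (.l 99) (wl [6, 5, 4, 3, 2, 4, 5, 6, 7, 8, 4]) 22 (.leaf (.l 99) (wl [7, 8, 3, 2, 4]) 22 (.leaf (.l 99) (wl [7, 8, 4]) 22 .nil))))))))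
  (.leaf (.l 99) (wl [1, 3, 4, 5, 6, 2, 4, 5, 3, 4, 1, 3, 2, 4, 5, 6, 7, 8, 4]) 22 (.leaf (.l 99) (wl [7, 8, 1, 3, 4, 5, 6, 7, 3, 2, 4, 5, 6, 3, 4, 1, 3, 2, 4]) 22 (.leaf (.l 99) (wl [8, 2]) 21 (.leaf (.l 99) (wl [8, 5]) 21 .nil)))))
  (.node (cmF 99 (.l 9))
  (.leaf (.l 99) (wl [4, 5, 6, 7, 8, 2, 4, 5, 6, 3, 4]) 22 (.leaf (.l 99) (wl [4, 5, 6, 7, 8, 3, 4, 5, 6, 2, 4, 2]) 21 (.leaf (.l 99) (wl [4, 5, 6, 7, 8, 3, 4, 5, 6, 2, 4]) 22 (.leaf (.l 99) (wl [4, 5, 6, 7, 8, 2, 4, 5, 6, 3, 4, 2]) 21 (.leaf (.l 99) (wl [4, 5, 6, 7, 8, 2, 4, 5, 6, 2, 4, 2]) 21 (.leaf (.l 99) (wl [4, 5, 6, 7, 8, 3, 4, 5, 6, 3, 4]) 22 (.leaf (.l 99) (wl [4, 5, 6, 7, 8, 3, 4, 5, 6, 3, 4, 2]) 21 (.leaf (.l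 99) (wl [4, 5, 6, 7, 8, 2, 4, 5, 6, 2, 4]) 22 .nil))))))))
  (.node (cmF 99 (.l 12))
  (.leaf (.l 99) (wl [6, 7, 8, 7, 3, 4, 5, 6, 3, 2, 4]) 22 (.leaf (.l 99) (wl [6, 7, 8, 5, 6, 3, 4, 2]) 21 (.leaf (.l 99) (wl [6, 7, 8, 7, 2, 4, 5, 6, 3, 2, 4]) 22 (.leaf (.l 99) (wl [6, 7, 8, 5, 6, 2, 4, 2]) 21 (.leaf (.l 99) (wl [5, 6, 7, 8, 7, 4, 5, 6, 4, 2]) 21 (.leaf (.l 99) (wl [5, 6, 7, 8, 5, 6, 3, 2, 4]) 22 (.leaf (.l 99) (wl [5, 6, 7, 8, 5, 6, 4]) 22 (.leaf (.l 99) (wl [5, 6, 7, 8, 5, 6, 7, 4]) 21 .nil))))))))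
  (.node (cmF 99 (wl [9, 20]))
  (.leaf (.l 99) (wl [3, 4, 5, 6, 7, 8, 7, 5, 6, 2, 4]) 22 (.leaf (.l 99) (wl [2, 4, 5, 6, 7, 8, 7, 5, 6, 2, 4, 2]) 21 (.leaf (.l 99) (wl [2, 4, 5, 6, 7, 8, 7, 5, 6, 3, 4, 2]) 21 (.leaf (.l 99) (wl [3, 4, 5, 6, 7, 8, 7, 5, 6, 3, 4]) 22 (.leaf (.l 99) (wl [2, 4, 5, 6, 7, 8, 7, 5, 6, 2, 4]) 22 (.leaf (.l 99) (wl [3, 4, 5, 6, 7, 8, 7, 5, 6, 2, 4, 2]) 21 (.leaf (.l 99) (wl [3, 4, 5, 6, 7, 8, 7, 5, 6, 3, 4, 2]) 21 (.leaf (.l 99) (wl [2, 4, 5, 6, 7, 8, 7, 5, 6, 3, 4]) 22 .nil))))))))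
  (.node (cmF 99 (wl [11, 20]))
  (.leaf (.l 99) (wl [8, 3, 4]) 22 (.leaf (.l 99) (wl [8, 2, 4]) 22 (.leaf (.l 99) (wl [8, 3, 4, 2]) 21 (.leaf (.l 99) (wl [8, 2, 4, 2]) 21 (.leaf (.l 99) (wl [7, 8, 7, 4, 5, 2]) 21 (.leaf (.l 99) (wl [7, 8, 7, 4]) 21 (.leaf (.l 99) (wl [7, 8, 4, 2]) 21 (.leaf (.l 99) (wl [7, 8, 4, 5]) 21 .nil))))))))
  (.node (cmF 99 (.l 18))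
  (.leaf (.l 99) (wl [6, 7, 8, 5, 6, 7, 3, 4]) 21 (.leaf (.l 99) (wl [6, 7, 8, 5, 6, 3, 4]) 22 (.leaf (.l 99) (wl [6, 7, 8, 5, 6, 7, 2, 4]) 21 (.leaf (.l 99) (wl [6, 7, 8, 5, 6, 2, 4]) 22 (.leaf (.l 99) (wl [5, 6, 7, 8, 5, 6, 4, 5]) 21 (.leaf (.l 99) (wl [4, 3, 2, 4, 5, 6, 7, 8, 5, 6, 4]) 22 (.leaf (.l 99) (wl [5, 6, 7, 8, 7, 4, 5, 6, 3, 2, 4]) 22 (.leaf (.l 99) (wl [5, 6, 7, 8, 5, 6, 4, 2]) 21 .nil))))))))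
  (.leaf (.l 99) (wl [7, 8, 1, 3, 4, 5, 6, 7, 1, 3, 2, 4, 5, 6, 3, 4, 1, 3, 2, 4]) 22 (.leaf (.l 99) (wl [7, 8, 1, 3, 4, 5, 6, 7, 4, 3, 2, 4, 5, 6, 3, 4, 1, 3, 2, 4]) 22 (.leaf (.l 99) (.l 8) 21 (.leaf (.l 99) (wl [8, 5, 2]) 21 .nil)))))))))))
  (.node (cmF 99 (.l 18))
  (.node (cmF 99 (.l 9))
  (.leaf (.l 99) (wl [3, 4, 5, 6, 7, 8, 2, 4, 5, 6, 2, 4]) 22 (.leaf (.l 99) (wl [2, 4, 5, 6, 7, 8, 3, 4, 5, 6, 2, 4, 2]) 21 (.leaf (.l 99) (wl [3, 4, 5, 6, 7, 8, 3, 4, 5, 6, 2, 4]) 22 (.leaf (.l 99) (wl [2, 4, 5, 6, 7, 8, 2, 4, 5, 6, 2, 4, 2]) 21 (.leaf (.l 99) (wl [2, 4, 5, 6, 7, 8, 2, 4, 5, 6, 2, 4]) 22 (.leaf (.l 99) (wl [3, 4, 5, 6, 7, 8, 3, 4, 5, 6, 2, 4, 2]) 21 (.leaf (.l 99)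 (wl [2, 4, 5, 6, 7, 8, 3, 4, 5, 6, 2, 4]) 22 (.leaf (.l 99) (wl [3, 4, 5, 6, 7, 8, 2, 4, 5, 6, 2, 4, 2]) 21 .nil))))))))
  (.node (cmF 99 (.l 11))
  (.node (cmF 99 (wl [9, 12]))
  (.leaf (.l 99) (wl [7, 8, 6, 7, 3, 4, 5, 6, 4, 3, 2, 4]) 22 (.leaf (.l 99) (wl [7, 8, 6, 7, 2, 4, 5, 6, 4, 3, 2, 4]) 22 (.leaf (.l 99) (wl [7, 8, 7, 2, 4]) 21 (.leaf (.l 99) (wl [7, 8, 7, 3, 4]) 21 .nil))))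
  (.leaf (.l 99) (wl [8, 6, 7, 3, 2, 4, 5, 6, 4, 3, 2, 4]) 22 (.leaf (.l 99) (wl [8, 6, 7, 4, 5, 6, 4, 3, 2, 4]) 22 (.leaf (.l 99) (wl [8, 3, 2, 4]) 22 (.leaf (.l 99) (wl [8, 4]) 22 .nil)))))
  (.node (cmF 99 (.l 12))
  (.leaf (.l 99) (wl [6, 7, 8, 7, 4, 5, 6, 4, 2]) 21 (.leaf (.l 99) (wl [6, 7, 8, 5, 6, 3, 2, 4]) 22 (.leaf (.l 99) (wl [6, 7, 8, 5, 6, 4, 2]) 21 (.leaf (.l 99) (wl [6, 7, 8, 7, 4, 5, 6, 3, 2, 4]) 22 (.leaf (.l 99) (wl [6, 7, 8, 5, 6, 4, 5]) 21 (.leaf (.l 99) (wl [6, 7, 8, 4, 3, 2, 4, 5, 6, 3, 2, 4]) 22 (.leaf (.l 99) (wl [6, 7, 8, 5, 6, 7, 4]) 21 (.leaf (.l 99) (wl [6, 7, 8, 5, 6, 4]) 22 .nil))))))))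
  (.node (cmF 99 (wl [9, 20]))
  (.leaf (.l 99) (wl [4, 5, 6, 7, 8, 2, 4, 5, 6, 3, 2, 4]) 22 (.leaf (.l 99) (wl [4, 5, 6, 7, 8, 7, 5, 6, 2, 4, 2]) 21 (.leaf (.l 99) (wl [4, 5, 6, 7, 8, 2, 4, 5, 6, 4, 2]) 21 (.leaf (.l 99) (wl [4, 5, 6, 7, 8, 7, 5, 6, 3, 4]) 22 (.leaf (.l 99) (wl [4, 5, 6, 7, 8, 3, 4, 5, 6, 3, 2, 4]) 22 (.leaf (.l 99) (wl [4, 5, 6, 7, 8, 7, 5, 6, 3, 4, 2]) 21 (.leaf (.l 99) (wl [4, 5, 6, 7, 8, 3, 4, 5, 6, 4, 2]) 21 (.leaf (.l 99) (wl [4, 5, 6, 7, 8, 7, 5, 6, 2, 4]) 22 .nil))))))))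
  (.node (cmF 99 (wl [11, 20]))
  (.node (cmF 99 (wl [9, 12]))
  (.leaf (.l 99) (wl [7, 8, 3, 4]) 22 (.leaf (.l 99) (wl [7, 8, 2, 4]) 22 (.leaf (.l 99) (wl [7, 8, 2, 4, 2]) 21 (.leaf (.l 99) (wl [7, 8, 3, 4, 2]) 21 .nil))))
  (.leaf (.l 99) (wl [8, 7, 4, 5, 2]) 21 (.leaf (.l 99) (wl [8, 7, 4]) 21 (.leaf (.l 99) (wl [8, 4, 5]) 21 (.leaf (.l 99) (wl [8, 4, 2]) 21 .nil)))))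
  (.leaf (.l 99) (wl [5, 6, 7, 8, 5, 6, 7, 3, 4]) 21 (.leaf (.l 99) (wl [5, 6, 7, 8, 5, 6, 3, 4]) 22 (.leaf (.l 99) (wl [5, 6, 7, 8, 7, 2, 4, 5, 6, 3, 2, 4]) 22 (.leaf (.l 99) (wl [5, 6, 7, 8, 5, 6, 2, 4, 2]) 21 (.leaf (.l 99) (wl [5, 6, 7, 8, 5, 6, 2, 4]) 22 (.leaf (.l 99) (wl [5, 6, 7, 8, 5, 6, 7, 2, 4]) 21 (.leaf (.l 99) (wl [5, 6, 7, 8, 5, 6, 3, 4, 2]) 21 (.leaf (.l 99) (wl [5, 6, 7, 8, 7, 3, 4, 5, 6, 3, 2, 4]) 22 .nil)))))))))))))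
  (.node (cmF 99 (.l 11))
  (.node (cmF 99 (wl [18, 21]))
  (.node (cmF 99 (.l 20))
  (.leaf (.l 99) (wl [8, 1, 3, 4, 5, 6, 7, 3, 2, 4, 5, 6, 3, 4, 1, 3, 2, 4]) 22 (.leaf (.l 99) (wl [8, 1, 3, 4, 5, 6, 7, 4, 1, 3, 2, 4, 5, 6, 3, 4, 1, 3, 2, 4]) 22 (.leaf (.l 99) (wl [7, 8, 5]) 21 (.leaf (.l 99) (wl [7, 8, 2]) 21 .nil))))
  (.leaf (.l 99) (wl [8, 6, 5, 4, 3, 2, 4, 5, 6, 1, 3, 4, 5, 1, 3, 2, 4, 3, 1]) 22 (.leaf (.l 99) (wl [7, 8, 6, 5, 4, 3, 2, 4, 5, 6, 1, 3, 4, 5, 4, 3, 2, 4, 3, 1]) 22 (.leaf (.l 99) (wl [8, 6, 5, 4, 3, 2, 4, 5, 6, 1, 3, 4, 5, 4, 3, 2, 4, 3, 1]) 22 (.leaf (.l 99) (wl [7, 8, 6, 5, 4, 3, 2, 4, 5, 6, 1, 3, 4, 5, 1, 3, 2, 4, 3, 1]) 22 (.leaf (.l 99) (wl [3, 2,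 4]) 22 (.leaf (.l 99) (wl [6, 5, 4, 1, 3, 2, 4, 5, 6, 7, 4, 1, 3, 2, 4, 5, 6, 2, 4, 3, 1]) 17 (.leaf (.l 99) (wl [6, 5, 3, 4, 1, 3, 2, 4, 5, 6, 7, 3, 4, 1, 3, 2, 4, 5, 6, 2, 4, 3, 1]) 17 (.leaf (.l 99) (.l 4) 22 .nil)))))))))
  (.leaf (.l 99) (wl [6, 5, 3, 4, 1, 3, 2, 4, 5, 6, 7, 3, 4, 1, 3, 2, 4, 5, 6, 5, 4, 3, 1]) 23 (.leaf (.l 99) (wl [8, 7, 6, 5, 4, 3, 2, 4, 5, 6, 7, 8, 1, 3, 2, 4, 5, 6, 7, 1, 3, 2, 4, 5, 6, 4, 5, 2, 4, 3, 1]) 23 (.leaf (.l 99) (wl [8, 7, 6, 5, 4, 3, 2, 4, 5, 6, 7, 8, 1, 3, 2, 4, 5, 6, 7, 1, 3, 2, 4, 5, 6, 3, 4, 5, 1, 3, 4]) 23 (.leaf (.l 99) (wl [6, 5, 4, 1, 3, 2, 4, 5, 6, 7, 4, 1, 3, 2, 4, 5, 6, 3, 4, 5, 1, 3, 4, 3, 1]) 23 (.leaf (.l 99) (wl [8, 7, 6,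 5, 4, 3, 2, 4, 5, 6, 7, 8, 1, 3, 4, 5, 6, 7, 3, 2, 4, 5, 6, 4, 5, 2, 4, 3, 1]) 23 (.leaf (.l 99) (wl [6, 5, 4, 1, 3, 2, 4, 5, 6, 7, 4, 1, 3, 2, 4, 5, 6, 5, 4, 3, 1]) 23 (.leaf (.l 99) (wl [8, 7, 6, 5, 4, 3, 2, 4, 5, 6, 7, 8, 1, 3, 4, 5, 6, 7, 3, 2, 4, 5, 6, 3, 4, 5, 1, 3, 4]) 23 (.leaf (.l 99) (wl [6, 5, 3, 4, 1, 3, 2, 4, 5, 6, 7, 3, 4, 1, 3, 2, 4, 5, 6, 3, 4, 5, 1, 3, 4, 3, 1]) 23 .nil)))))))))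
  (.node (cmF 99 (wl [11, 21]))
  (.node (cmF 99 (.l 20))
  (.leaf (.l 99) (wl [8, 1, 3, 4, 5, 6, 7, 4, 3, 2, 4, 5, 6, 3, 4, 1, 3, 2, 4]) 22 (.leaf (.l 99) (wl [8, 1, 3, 4, 5, 6, 7, 1, 3, 2, 4, 5, 6, 3, 4, 1, 3, 2, 4]) 22 (.leaf (.l 99) (wl [7, 8, 5, 2]) 21 (.leaf (.l 99) (wl [7, 8]) 21 .nil))))
  (.leaf (.l 99) (wl [6, 5, 4, 3, 2, 4, 5, 6, 1, 3, 2, 4, 5, 3, 2, 4, 3, 1]) 20 (.leaf (.l 99) (wl [1, 3, 4, 5, 4, 3, 2, 4, 3, 1]) 22 (.leaf (.l 99) (wl [6, 5, 4, 3, 2, 4, 5, 6, 1, 3, 4, 5, 1, 3, 2, 4, 3, 1]) 20 (.leaf (.l 99) (wl [1, 3, 4, 5, 1, 3, 2, 4, 3, 1]) 22 (.leaf (.l 99) (wl [7, 4, 2]) 21 (.leaf (.l 99) (wl [4, 5]) 21 (.leaf (.l 99) (wl [4, 2]) 21 (.leaf (.l 99) (wl [7, 4,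 5]) 21 .nil)))))))))
  (.leaf (.l 99) (wl [6, 5, 3, 4, 1, 3, 2, 4, 5, 6, 7, 4, 1, 3, 2, 4, 5, 6, 5, 4, 3, 1]) 23 (.leaf (.l 99) (wl [8, 7, 6, 5, 4, 3, 2, 4, 5, 6, 7, 8, 1, 3, 2, 4, 5, 6, 7, 3, 2, 4, 5, 6, 4, 5, 2, 4, 3, 1]) 23 (.leaf (.l 99) (wl [8, 7, 6, 5, 4, 3, 2, 4, 5, 6, 7, 8, 1, 3, 2, 4, 5, 6, 7, 3, 2, 4, 5, 6, 3, 4, 5, 1, 3, 4]) 23 (.leaf (.l 99) (wl [6, 5, 4, 1, 3, 2, 4, 5, 6, 7, 3, 4, 1, 3, 2, 4, 5, 6, 3, 4, 5, 1, 3, 4, 3, 1]) 23 (.leaf (.l 99) (wl [8, 7, 6, 5, 4, 3, 2, 4, 5, 6, 7, 8, 1, 3, 4, 5, 6, 7, 1, 3, 2, 4, 5, 6, 4, 5, 2, 4, 3, 1]) 23 (.leaf (.l 99) (wl [6, 5, 4, 1, 3, 2, 4, 5, 6, 7, 3, 4, 1, 3, 2, 4, 5, 6, 5, 4, 3, 1]) 23 (.leaf (.l 99) (wl [8, 7, 6, 5, 4,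 3, 2, 4, 5, 6, 7, 8, 1, 3, 4, 5, 6, 7, 1, 3, 2, 4, 5, 6, 3, 4, 5, 1, 3, 4]) 23 (.leaf (.l 99) (wl [6, 5, 3, 4, 1, 3, 2, 4, 5, 6, 7, 4, 1, 3, 2, 4, 5, 6, 3, 4, 5, 1, 3, 4, 3, 1]) 23 .nil)))))))))))))
  (.node (cmF 99 (.l 20))
  (.node (cmF 99 (.l 10))
  (.node (cmF 99 (.l 9))
  (.node (cmF 99 (wl [21, 22]))
  (.node (cmF 99 (.l 11))
  (.leaf (.l 99) (wl [7, 1, 3, 4, 5, 6, 2, 4, 5, 3, 4, 1, 3, 2, 4, 5, 6, 7, 8, 6, 5, 4, 1, 3, 2, 4, 5, 6, 7, 1, 3, 2, 4, 5, 6, 3, 2, 4, 5, 3, 2, 4, 1]) 20 (.leaf (.l 99) (wl [7, 8, 6, 7, 5, 6, 4, 5, 2, 4]) 20 (.leaf (.l 99) (wl [8, 6, 7, 5, 6, 4, 5, 2, 4]) 20 (.leaf (.l 99) (wl [1, 3, 4, 5, 6, 2, 4, 5, 3, 4, 1, 3, 2, 4, 5, 6, 7, 8, 6, 5, 4, 1, 3,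 2, 4, 5, 6, 7, 1, 3, 2, 4, 5, 6, 3, 2, 4, 5, 3, 2, 4, 1]) 20 .nil))))
  (.node (cmF 99 (.l 12))
  (.leaf (.l 99) (wl [8, 7, 5, 6]) 17 (.leaf (.l 99) (wl [8, 7, 6, 4, 5, 2, 4]) 20 (.leaf (.l 99) (wl [5, 6, 7, 8, 4, 5, 6, 7, 2, 4, 5, 6]) 17 (.leaf (.l 99) (wl [1, 3, 4, 5, 6, 2, 4, 5, 3, 4, 1, 3, 2, 4, 5, 6, 7, 8, 6, 5, 4, 3, 2, 4, 5, 6, 7, 1, 3, 2, 4, 5, 6, 3, 2, 4, 5, 3, 2, 4, 1]) 20 .nil))))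
  (.node (cmF 99 (wl [11, 21]))
  (.leaf (.l 99) (wl [8, 6, 7, 5, 6]) 17 (.leaf (.l 99) (wl [7, 8, 4, 5, 6, 7, 2, 4, 5, 6]) 17 (.leaf (.l 99) (wl [8, 4, 5, 6, 7, 2, 4, 5, 6]) 17 (.leaf (.l 99) (wl [7, 8, 6, 7, 5, 6]) 17 .nil))))
  (.node (cmF 99 (wl [12, 21]))
  (.leaf (.l 99) (wl [6, 7, 8, 4, 5, 6, 7, 2, 4, 5, 6]) 17 (.leaf (.l 99) (wl [1, 3, 4, 5, 6, 2, 4, 5, 3, 4, 1, 3, 2, 4, 5, 6, 7, 8, 6, 5, 4, 3, 2, 4, 5, 6, 7, 1, 3, 4, 5, 6, 3, 2, 4, 5, 3, 2, 4, 1]) 20 (.leaf (.l 99) (wl [8, 7, 6]) 17 (.leaf (.l 99) (wl [8, 7, 5, 6, 4, 5, 2, 4]) 20 .nil))))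
  (.leaf (.l 99) (wl [6, 4, 5, 2, 4]) 20 (.leaf (.l 99) (wl [7, 5, 6]) 17 (.leaf (.l 99) (wl [5, 6]) 17 (.leaf (.l 99) (wl [7, 6, 4, 5, 2, 4]) 20 (.leaf (.l 99) (wl [5, 6, 4, 5, 2, 4]) 20 (.leaf (.l 99) (wl [7, 6]) 17 (.leaf (.l 99) (.l 6) 17 (.leaf (.l 99) (wl [7, 5, 6, 4, 5, 2, 4]) 20 .nil))))))))))))
  (.node (cmF 99 (.l 21))
  (.leaf (.l 99) (wl [4, 1, 3, 2, 4, 5, 6, 7, 5, 4, 3, 2, 4, 5, 6, 4, 5, 3, 4, 1, 3, 2, 4, 3, 1]) 22 (.leaf (.l 99) (wl [1, 3, 4, 5, 6, 7, 6, 4, 5, 3, 4, 1, 3, 2, 4, 5, 6, 4, 5, 3, 4, 1, 3, 2, 4, 3, 1]) 22 (.leaf (.l 99) (wl [4, 1, 3, 2, 4, 5, 6, 7, 6, 5, 4, 3, 2, 4, 5, 6, 4, 5, 3, 4, 1, 3, 2, 4, 3, 1]) 22 (.leaf (.l 99) (wl [1, 3, 4, 5, 6, 7, 4, 5,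 3, 4, 1, 3, 2, 4, 5, 6, 4, 5, 3, 4, 1, 3, 2, 4, 3, 1]) 22 (.leaf (.l 99) (wl [5, 4, 1, 3, 2, 4, 5, 6, 7, 5, 4, 3, 2, 4, 5, 6, 4, 5, 3, 4, 1, 3, 2, 4, 3, 1]) 22 (.leaf (.l 99) (wl [1, 3, 4, 5, 6, 7, 6, 5, 3, 4, 1, 3, 2, 4, 5, 6, 4, 5, 3, 4, 1, 3, 2, 4, 3, 1]) 22 (.leaf (.l 99) (wl [5, 4, 1, 3, 2, 4, 5, 6, 7, 6, 5, 4, 3, 2, 4, 5, 6, 4, 5, 3, 4, 1, 3, 2, 4, 3, 1]) 22 (.leaf (.l 99) (wl [1, 3, 4, 5, 6, 7, 5, 3, 4, 1, 3, 2, 4, 5, 6, 4, 5, 3, 4, 1, 3, 2, 4, 3, 1]) 22 .nil))))))))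
  (.leaf (.l 99) (wl [8, 6, 7, 1, 3, 4, 5, 6, 2, 4, 5, 3, 4, 1, 3, 2, 4, 5, 6, 7, 8, 6, 4, 5, 3, 4, 1, 3, 2, 4, 5, 6, 7, 3, 4, 1, 3, 2, 4, 5, 6, 3, 4, 5, 1, 3, 4, 3, 1]) 23 (.leaf (.l 99) (wl [8, 6, 7, 1, 3, 4, 5, 6, 2, 4, 5, 3, 4, 1, 3, 2, 4, 5, 6, 7, 8, 6, 4, 5, 3, 4, 1, 3, 2, 4, 5, 6, 7, 3, 4, 1, 3, 2, 4, 5, 6, 5, 4, 3, 1]) 23 (.leaf (.l 99) (wl [7, 8, 6, 7, 1, 3, 4, 5, 6, 2, 4, 5, 3, 4, 1, 3, 2, 4, 5, 6, 7, 8, 6, 4, 5, 3, 4, 1, 3, 2, 4, 5, 6, 7, 3, 4, 1, 3, 2, 4, 5, 6, 3, 4, 5, 1, 3, 4, 3, 1]) 23 (.leaf (.l 99) (wl [7, 8, 6, 7, 1, 3, 4, 5, 6, 2, 4, 5, 3, 4, 1, 3, 2, 4, 5, 6, 7, 8, 6, 4, 5, 3, 4, 1, 3, 2, 4, 5, 6, 7, 3, 4, 1, 3, 2, 4, 5, 6, 5, 4, 3, 1]) 23 (.leaf (.l 99)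 (wl [8, 5, 6, 7, 1, 3, 4, 5, 6, 2, 4, 5, 3, 4, 1, 3, 2, 4, 5, 6, 7, 8, 6, 4, 5, 3, 4, 1, 3, 2, 4, 5, 6, 7, 3, 4, 1, 3, 2, 4, 5, 6, 3, 4, 5, 1, 3, 4, 3, 1]) 23 (.leaf (.l 99) (wl [8, 5, 6, 7, 1, 3, 4, 5, 6, 2, 4, 5, 3, 4, 1, 3, 2, 4, 5, 6, 7, 8, 6, 4, 5, 3, 4, 1, 3, 2, 4, 5, 6, 7, 3, 4, 1, 3, 2, 4, 5, 6, 5, 4, 3, 1]) 23 (.leaf (.l 99) (wl [7, 8, 5, 6, 7, 1, 3, 4, 5, 6, 2, 4, 5, 3, 4, 1, 3, 2, 4, 5, 6, 7, 8, 6, 4, 5, 3, 4, 1, 3, 2, 4, 5, 6, 7, 3, 4, 1, 3, 2, 4, 5, 6, 3, 4, 5, 1, 3, 4, 3, 1]) 23 (.leaf (.l 99) (wl [7, 8, 5, 6, 7, 1, 3, 4, 5, 6, 2, 4, 5, 3, 4, 1, 3, 2, 4, 5, 6, 7, 8, 6, 4, 5, 3, 4, 1, 3, 2, 4, 5, 6, 7, 3, 4, 1, 3, 2, 4, 5, 6, 5, 4, 3, 1]) 23 (.leaf (.l 99) (wl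 [7, 1, 3, 4, 5, 6, 2, 4, 5, 3, 4, 1, 3, 2, 4, 5, 6, 7, 8, 6, 5, 4, 1, 3, 2, 4, 5, 6, 7, 1, 3, 2, 4, 5, 6, 2, 4, 3, 1]) 23 (.leaf (.l 99) (wl [7, 8, 6, 7, 5, 6]) 23 (.leaf (.l 99) (wl [8, 6, 7, 5, 6]) 23 (.leaf (.l 99) (wl [1, 3, 4, 5, 6, 2, 4, 5, 3, 4, 1, 3, 2, 4, 5, 6, 7, 8, 6, 5, 4, 1, 3, 2, 4, 5, 6, 7, 1, 3, 2, 4, 5, 6, 2, 4, 3, 1]) 23 (.leaf (.l 99) (.l 6) 23 (.leaf (.l 99) (wl [8, 7, 5, 6, 4, 3, 2, 4]) 23 (.leaf (.l 99) (wl [1, 3, 4, 5, 6, 2, 4, 5, 3, 4, 1, 3, 2, 4, 5, 6, 7, 8, 6, 5, 4, 3, 2, 4, 5, 6, 7, 6, 5, 4, 3, 2, 4, 5, 6, 3, 1]) 23 (.leaf (.l 99) (wl [7, 5, 6, 4, 3, 2, 4]) 23 (.leaf (.l 99) (wl [8, 7, 6]) 23 (.leaf (.l 99) (wl [5, 6, 4, 3, 2, 4]) 23 (.leaf (.l 99)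 (wl [7, 6]) 23 (.leaf (.l 99) (wl [1, 3, 4, 5, 6, 2, 4, 5, 3, 4, 1, 3, 2, 4, 5, 6, 7, 8, 6, 5, 4, 3, 2, 4, 5, 6, 7, 1, 3, 4, 5, 6, 2, 4, 3, 1]) 23 (.leaf (.l 99) (wl [5, 6]) 23 (.leaf (.l 99) (wl [8, 7, 6, 4, 3, 2, 4]) 23 (.leaf (.l 99) (wl [1, 3, 4, 5, 6, 2, 4, 5, 3, 4, 1, 3, 2, 4, 5, 6, 7, 8, 6, 5, 4, 3, 2, 4, 5, 6, 7, 6, 5, 4, 3, 2, 4, 5, 6, 1]) 23 (.leaf (.l 99) (wl [7, 6, 4, 3, 2, 4]) 23 (.leaf (.l 99) (wl [8, 7, 5, 6]) 23 (.leaf (.l 99) (wl [6, 4, 3, 2, 4]) 23 (.leaf (.l 99) (wl [7, 5, 6]) 23 (.leaf (.l 99) (wl [1, 3, 4, 5, 6, 2, 4, 5, 3, 4, 1, 3, 2, 4, 5, 6, 7, 8, 6, 5, 4, 3, 2, 4, 5, 6, 7, 1, 3, 2, 4, 5, 6, 2, 4, 3, 1]) 23 (.leaf (.l 99) (wl [8, 6, 7, 5, 6, 4, 3, 2,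 4]) 23 (.leaf (.l 99) (wl [1, 3, 4, 5, 6, 2, 4, 5, 3, 4, 1, 3, 2, 4, 5, 6, 7, 8, 6, 5, 4, 1, 3, 2, 4, 5, 6, 7, 6, 5, 4, 3, 2, 4, 5, 6, 3, 1]) 23 (.leaf (.l 99) (wl [7, 1, 3, 4, 5, 6, 2, 4, 5, 3, 4, 1, 3, 2, 4, 5, 6, 7, 8, 6, 5, 4, 1, 3, 2, 4, 5, 6, 7, 6, 5, 4, 3, 2, 4, 5, 6, 3, 1]) 23 (.leaf (.l 99) (wl [7, 8, 6, 7, 5, 6, 4, 3, 2, 4]) 23 .nil))))))))))))))))))))))))))))))))))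
  (.node (cmF 99 (.l 18))
  (.node (cmF 99 (.l 21))
  (.node (cmF 99 (.l 11))
  (.leaf (.l 99) (wl [8, 6, 5, 4, 3, 2, 4, 5, 6, 1, 3, 4, 5, 3, 4, 1, 3, 2, 4, 3, 1]) 22 (.leaf (.l 99) (wl [7, 8, 6, 5, 4, 3, 2, 4, 5, 6, 1, 3, 4, 5, 2, 4, 3, 1]) 22 (.leaf (.l 99) (wl [8, 6, 5, 4, 3, 2, 4, 5, 6, 1, 3, 4, 5, 2, 4, 3, 1]) 22 (.leaf (.l 99) (wl [7, 8, 6, 5, 4, 3, 2, 4, 5, 6, 1, 3, 4, 5, 3, 4, 1, 3, 2, 4, 3, 1]) 22 .nil))))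
  (.node (cmF 99 (.l 12))
  (.leaf (.l 99) (wl [6, 7, 8, 4, 3, 2, 4, 5, 6, 1, 3, 4, 5, 2, 4, 3, 1]) 22 (.leaf (.l 99) (wl [5, 6, 7, 8, 5, 6, 1, 3, 4, 5, 2, 4, 3, 1]) 22 (.leaf (.l 99) (wl [6, 7, 8, 4, 3, 2, 4, 5, 6, 1, 3, 4, 5, 3, 4, 1, 3, 2, 4, 3, 1]) 22 (.leaf (.l 99) (wl [5, 6, 7, 8, 5, 6, 1, 3, 4, 5, 3, 4, 1, 3, 2, 4, 3, 1]) 22 .nil))))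
  (.node (cmF 99 (wl [11, 22]))
  (.leaf (.l 99) (wl [8, 1, 3, 4, 5, 3, 4, 1, 3, 2, 4, 3, 1]) 22 (.leaf (.l 99) (wl [7, 8, 1, 3, 4, 5, 2, 4, 3, 1]) 22 (.leaf (.l 99) (wl [8, 1, 3, 4, 5, 2, 4, 3, 1]) 22 (.leaf (.l 99) (wl [7, 8, 1, 3, 4, 5, 3, 4, 1, 3, 2, 4, 3, 1]) 22 .nil))))
  (.leaf (.l 99) (wl [5, 6, 7, 8, 4, 3, 2, 4, 5, 6, 1, 3, 4, 5, 3, 4, 1, 3, 2, 4, 3, 1]) 22 (.leaf (.l 99) (wl [6, 7, 8, 5, 6, 1, 3, 4, 5, 3, 4, 1, 3, 2, 4, 3, 1]) 22 (.leaf (.l 99) (wl [5, 6, 7, 8, 4, 3, 2, 4, 5, 6, 1, 3, 4, 5, 2, 4, 3, 1]) 22 (.leaf (.l 99) (wl [6, 7, 8, 5, 6, 1, 3, 4, 5, 2, 4, 3, 1]) 22 .nil)))))))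
  (.leaf (.l 99) (wl [6, 7, 1, 3, 4, 5, 6, 2, 4, 5, 3, 4, 1, 3, 2, 4, 5, 6, 7, 8, 6, 4, 5, 3, 4, 1, 3, 2, 4, 5, 6, 7, 3, 4, 1, 3, 2, 4, 5, 6, 1, 3, 2, 4, 3, 1]) 23 (.leaf (.l 99) (wl [6, 7, 8, 4, 5, 6, 7, 2, 4, 5, 6, 3, 4]) 23 (.leaf (.l 99) (wl [6, 7, 8, 4, 5, 6, 7, 2, 4, 5, 6, 2, 4]) 23 (.leaf (.l 99) (wl [6, 7, 1, 3, 4, 5, 6, 2, 4, 5, 3, 4, 1, 3, 2, 4, 5, 6, 7, 8, 6, 4, 5, 3, 4, 1, 3, 2, 4, 5, 6, 7, 3, 4, 1, 3, 2, 4, 5, 6, 4, 3, 2, 4, 3, 1]) 23 (.leaf (.l 99) (wl [5, 6, 7, 1, 3, 4, 5, 6, 2, 4, 5, 3, 4, 1, 3, 2, 4, 5, 6, 7, 8, 6, 4, 5, 3, 4, 1, 3, 2, 4, 5, 6, 7, 3, 4, 1, 3, 2, 4, 5, 6, 1, 3, 2, 4, 3, 1]) 23 (.leaf (.l 99) (wl [5, 6, 7, 8, 4, 5, 6, 7, 2, 4, 5, 6, 3, 4]) 23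 (.leaf (.l 99) (wl [5, 6, 7, 8, 4, 5, 6, 7, 2, 4, 5, 6, 2, 4]) 23 (.leaf (.l 99) (wl [5, 6, 7, 1, 3, 4, 5, 6, 2, 4, 5, 3, 4, 1, 3, 2, 4, 5, 6, 7, 8, 6, 4, 5, 3, 4, 1, 3, 2, 4, 5, 6, 7, 3, 4, 1, 3, 2, 4, 5, 6, 4, 3, 2, 4, 3, 1]) 23 (.leaf (.l 99) (wl [7, 1, 3, 4, 5, 6, 2, 4, 5, 3, 4, 1, 3, 2, 4, 5, 6, 7, 8, 6, 4, 5, 3, 4, 1, 3, 2, 4, 5, 6, 7, 3, 4, 1, 3, 2, 4, 5, 6, 2, 4, 3, 1]) 23 (.leaf (.l 99) (wl [7, 8, 4, 5, 6, 7, 3, 4, 5, 6]) 23 (.leaf (.l 99) (wl [8, 4, 5, 6, 7, 3, 4, 5, 6]) 23 (.leaf (.l 99) (wl [1, 3, 4, 5, 6, 2, 4, 5, 3, 4, 1, 3, 2, 4, 5, 6, 7, 8, 6, 4, 5, 3, 4, 1, 3, 2, 4, 5, 6, 7, 3, 4, 1, 3, 2, 4, 5, 6, 2, 4, 3, 1]) 23 (.leaf (.l 99) (wl [8, 4, 5, 6, 7, 2, 4, 5,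 6]) 23 (.leaf (.l 99) (wl [1, 3, 4, 5, 6, 2, 4, 5, 3, 4, 1, 3, 2, 4, 5, 6, 7, 8, 6, 4, 5, 3, 4, 1, 3, 2, 4, 5, 6, 7, 5, 4, 1, 3, 2, 4, 5, 6, 2, 4, 3, 1]) 23 (.leaf (.l 99) (wl [7, 1, 3, 4, 5, 6, 2, 4, 5, 3, 4, 1, 3, 2, 4, 5, 6, 7, 8, 6, 4, 5, 3, 4, 1, 3, 2, 4, 5, 6, 7, 5, 4, 1, 3, 2, 4, 5, 6, 2, 4, 3, 1]) 23 (.leaf (.l 99) (wl [7, 8, 4, 5, 6, 7, 2, 4, 5, 6]) 23 .nil)))))))))))))))))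
  (.node (cmF 99 (.l 11))
  (.node (cmF 99 (.l 21))
  (.leaf (.l 99) (wl [7, 6, 5, 4, 3, 2, 4, 5, 6, 7, 8, 1, 3, 4, 5, 6, 7, 2, 4, 5, 6, 3, 4, 5, 2, 4, 1]) 20 (.leaf (.l 99) (wl [8, 6, 5, 4, 1, 3, 2, 4, 5, 6, 7, 1, 3, 2, 4, 5, 6, 3, 2, 4, 5, 3, 2, 4, 1]) 20 (.leaf (.l 99) (wl [7, 8, 6, 7, 5, 6, 4, 3, 2, 4]) 22 (.leaf (.l 99) (wl [6, 5, 4, 3, 2, 4, 5, 6, 7, 8]) 22 .nil))))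
  (.leaf (.l 99) (wl [7, 8, 6, 5, 4, 1, 3, 2, 4, 5, 6, 7, 1, 3, 2, 4, 5, 6, 3, 2, 4, 5, 3, 2, 4, 1]) 20 (.leaf (.l 99) (wl [6, 5, 4, 3, 2, 4, 5, 6, 7, 8, 1, 3, 4, 5, 6, 7, 2, 4, 5, 6, 3, 4, 5, 2, 4, 1]) 20 (.leaf (.l 99) (wl [7, 6, 5, 4, 3, 2, 4, 5, 6, 7, 8]) 22 (.leaf (.l 99) (wl [8, 6, 7, 5, 6, 4, 3, 2, 4]) 22 .nil)))))
  (.node (cmF 99 (wl [11, 18]))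
  (.node (cmF 99 (.l 21))
  (.leaf (.l 99) (wl [8, 1, 3, 4, 5, 6, 7, 2, 4, 5, 6, 3, 4, 1, 3, 2, 4]) 22 (.leaf (.l 99) (wl [7, 1, 3, 4, 5, 6, 2, 4, 5, 3, 4, 1, 3, 2, 4, 5, 6, 7, 8]) 22 (.leaf (.l 99) (wl [7, 8, 6, 5, 4, 1, 3, 2, 4, 5, 6, 7, 1, 3, 2, 4, 5, 6, 2, 4, 3, 1]) 17 (.leaf (.l 99) (wl [6, 5, 4, 3, 2, 4, 5, 6, 7, 8, 1, 3, 4, 5, 6, 7, 2, 4, 5, 6, 3, 1]) 17 .nil))))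
  (.leaf (.l 99) (wl [1, 3, 4, 5, 6, 2, 4, 5, 3, 4, 1, 3, 2, 4, 5, 6, 7, 8]) 22 (.leaf (.l 99) (wl [7, 8, 1, 3, 4, 5, 6, 7, 2, 4, 5, 6, 3, 4, 1, 3, 2, 4]) 22 (.leaf (.l 99) (wl [7, 6, 5, 4, 3, 2, 4, 5, 6, 7, 8, 1, 3, 4, 5, 6, 7, 2, 4, 5, 6, 3, 1]) 17 (.leaf (.l 99) (wl [8, 6, 5, 4, 1, 3, 2, 4, 5, 6, 7, 1, 3, 2, 4, 5, 6, 2, 4, 3, 1]) 17 .nil)))))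
  (.leaf (.l 99) (wl [7, 6, 5, 4, 3, 2, 4, 5, 6, 7, 8, 4, 1, 3, 2, 4, 5, 6, 7, 1, 3, 2, 4, 5, 6, 3, 1]) 23 (.leaf (.l 99) (wl [8, 6, 4, 5, 3, 4, 1, 3, 2, 4, 5, 6, 7, 3, 4, 1, 3, 2, 4, 5, 6, 2, 4, 3, 1]) 23 (.leaf (.l 99) (wl [7, 8, 6, 4, 5, 3, 4, 1, 3, 2, 4, 5, 6, 7, 3, 4, 1, 3, 2, 4, 5, 6, 2, 4, 3, 1]) 23 (.leaf (.l 99) (wl [6, 5, 4, 3, 2, 4, 5, 6, 7, 8, 4, 1, 3, 2, 4, 5, 6, 7, 1, 3, 2, 4, 5, 6, 3, 1]) 23 (.leaf (.l 99) (wl [8, 6, 5, 4, 1, 3, 2, 4, 5, 6, 7, 1, 3, 2, 4, 5, 6, 2, 4, 3, 1]) 23 (.leaf (.l 99) (wl [7, 6, 5, 4, 3, 2, 4, 5, 6, 7, 8, 1, 3, 4, 5, 6, 7, 2, 4, 5, 6, 3, 1]) 23 (.leaf (.l 99) (wl [6, 5, 4, 3, 2, 4, 5, 6, 7, 8, 1, 3, 4, 5, 6, 7, 2, 4, 5, 6, 3, 1]) 23 (.leaf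 (.l 99) (wl [7, 8, 6, 5, 4, 1, 3, 2, 4, 5, 6, 7, 1, 3, 2, 4, 5, 6, 2, 4, 3, 1]) 23 (.leaf (.l 99) (wl [7, 6, 5, 4, 3, 2, 4, 5, 6, 7, 8, 1, 3, 4, 5, 6, 7, 3, 4, 1, 3, 2, 4, 5, 6, 3, 1]) 23 (.leaf (.l 99) (wl [8, 6, 5, 4, 1, 3, 2, 4, 5, 6, 7, 6, 5, 4, 3, 2, 4, 5, 6, 3, 1]) 23 (.leaf (.l 99) (wl [7, 8, 6, 5, 4, 1, 3, 2, 4, 5, 6, 7, 6, 5, 4, 3, 2, 4, 5, 6, 3, 1]) 23 (.leaf (.l 99) (wl [6, 5, 4, 3, 2, 4, 5, 6, 7, 8, 1, 3, 4, 5, 6, 7, 3, 4, 1, 3, 2, 4, 5, 6, 3, 1]) 23 (.leaf (.l 99) (wl [8, 6, 4, 5, 3, 4, 1, 3, 2, 4, 5, 6, 7, 5, 4, 1, 3, 2, 4, 5, 6, 2, 4, 3, 1]) 23 (.leaf (.l 99) (wl [7, 6, 5, 4, 3, 2, 4, 5, 6, 7, 8, 4, 1, 3, 2, 4, 5, 6, 7, 4, 3, 2, 4, 5, 6, 3, 1]) 23 (.leaf (.l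 99) (wl [6, 5, 4, 3, 2, 4, 5, 6, 7, 8, 4, 1, 3, 2, 4, 5, 6, 7, 4, 3, 2, 4, 5, 6, 3, 1]) 23 (.leaf (.l 99) (wl [7, 8, 6, 4, 5, 3, 4, 1, 3, 2, 4, 5, 6, 7, 5, 4, 1, 3, 2, 4, 5, 6, 2, 4, 3, 1]) 23 .nil))))))))))))))))))))
  (.node (cmF 99 (.l 9))
  (.node (cmF 99 (wl [21, 22]))
  (.node (cmF 99 (.l 11))
  (.leaf (.l 99) (wl [5, 2, 4]) 20 (.leaf (.l 99) (wl [6, 7, 4, 5, 6]) 17 (.leaf (.l 99) (.l 4) 20 (.leaf (.l 99) (wl [5, 6, 7, 2, 4, 5, 6]) 17 .nil))))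
  (.node (cmF 99 (.l 12))
  (.leaf (.l 99) (wl [7, 4, 5, 6]) 17 (.leaf (.l 99) (wl [7, 6, 5, 2, 4]) 20 (.leaf (.l 99) (wl [2, 4, 5, 6]) 17 (.leaf (.l 99) (wl [6, 5, 4]) 20 .nil))))
  (.node (cmF 99 (wl [11, 21]))
  (.leaf (.l 99) (wl [2, 4]) 20 (.leaf (.l 99) (wl [5, 6, 7, 4, 5, 6]) 17 (.leaf (.l 99) (wl [5, 4]) 20 (.leaf (.l 99) (wl [6, 7, 2, 4, 5, 6]) 17 .nil))))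
  (.node (cmF 99 (wl [12, 21]))
  (.leaf (.l 99) (wl [6, 5, 2, 4]) 20 (.leaf (.l 99) (wl [4, 5, 6]) 17 (.leaf (.l 99) (wl [7, 6, 5, 4]) 20 (.leaf (.l 99) (wl [7, 2, 4, 5, 6]) 17 .nil))))
  (.leaf (.l 99) (wl [8, 7, 4, 5, 6]) 17 (.leaf (.l 99) (wl [6, 7, 8, 5, 6, 7, 2, 4, 5, 6]) 17 (.leaf (.l 99) (wl [8, 7, 6, 5, 2, 4]) 20 (.leaf (.l 99) (wl [1, 3, 4, 5, 6, 2, 4, 5, 3, 4, 1, 3, 2, 4, 5, 6, 7, 8, 6, 5, 4, 3, 2, 4, 5, 6, 7, 1, 3, 4, 5, 6, 2, 4, 5, 3, 2, 4, 1]) 20 (.leaf (.l 99) (wl [8, 7, 6, 5, 4]) 20 (.leaf (.l 99) (wl [1, 3, 4, 5, 6, 2, 4, 5, 3, 4, 1, 3, 2, 4, 5, 6, 7, 8, 6, 5, 4, 3, 2, 4, 5, 6, 7, 1, 3, 4, 5, 6, 2, 4, 5, 3, 4, 1]) 20 (.leaf (.l 99) (wl [8, 7, 2, 4, 5, 6])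 17 (.leaf (.l 99) (wl [6, 7, 8, 5, 6, 7, 4, 5, 6]) 17 .nil))))))))))))
  (.node (cmF 99 (.l 11))
  (.leaf (.l 99) (wl [8, 7, 1, 3, 4, 5, 6, 2, 4, 5, 3, 4, 1, 3, 2, 4, 5, 6, 7, 8, 6, 5, 3, 4, 1, 3, 2, 4, 5, 6, 7, 3, 4, 1, 3, 2, 4, 5, 6, 3, 4, 5, 1, 3, 4, 3, 1]) 23 (.leaf (.l 99) (wl [8, 7, 1, 3, 4, 5, 6, 2, 4, 5, 3, 4, 1, 3, 2, 4, 5, 6, 7, 8, 6, 5, 3, 4, 1, 3, 2, 4, 5, 6, 7, 3, 4, 1, 3, 2, 4, 5, 6, 5, 4, 3, 1]) 23 (.leaf (.l 99) (wl [8, 7, 1, 3, 4, 5, 6, 2, 4, 5, 3, 4, 1, 3, 2, 4, 5, 6, 7, 8, 6, 5, 4, 1, 3, 2, 4, 5, 6, 7, 4, 1, 3, 2, 4, 5, 6, 5, 4, 3, 1]) 23 (.leaf (.l 99) (wl [8, 7, 1, 3, 4, 5, 6, 2, 4, 5, 3, 4, 1, 3, 2, 4, 5, 6, 7, 8, 6, 5, 4, 1, 3, 2, 4, 5, 6, 7, 4, 1, 3,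 2, 4, 5, 6, 3, 4, 5, 1, 3, 4, 3, 1]) 23 .nil))))
  (.node (cmF 99 (wl [11, 22]))
  (.leaf (.l 99) (wl [8, 7, 1, 3, 4, 5, 6, 2, 4, 5, 3, 4, 1, 3, 2, 4, 5, 6, 7, 8, 6, 5, 4, 1, 3, 2, 4, 5, 6, 7, 3, 4, 1, 3, 2, 4, 5, 6, 3, 4, 5, 1, 3, 4, 3, 1]) 23 (.leaf (.l 99) (wl [8, 7, 1, 3, 4, 5, 6, 2, 4, 5, 3, 4, 1, 3, 2, 4, 5, 6, 7, 8, 6, 5, 4, 1, 3, 2, 4, 5, 6, 7, 3, 4, 1, 3, 2, 4, 5, 6, 5, 4, 3, 1]) 23 (.leaf (.l 99) (wl [8, 7, 1, 3, 4, 5, 6, 2, 4, 5, 3, 4, 1, 3, 2, 4, 5, 6, 7, 8, 6, 5, 3, 4, 1, 3, 2, 4, 5, 6, 7, 4, 1, 3, 2, 4, 5, 6, 5, 4, 3, 1]) 23 (.leaf (.l 99) (wl [8, 7, 1, 3, 4, 5, 6, 2, 4, 5, 3, 4, 1, 3, 2, 4, 5, 6, 7, 8, 6, 5, 3, 4, 1, 3, 2, 4, 5, 6, 7, 4, 1, 3, 2, 4, 5, 6, 3,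 4, 5, 1, 3, 4, 3, 1]) 23 .nil))))
  (.leaf (.l 99) (wl [8, 6, 7, 1, 3, 4, 5, 6, 2, 4, 5, 3, 4, 1, 3, 2, 4, 5, 6, 7, 8, 6, 5, 3, 4, 1, 3, 2, 4, 5, 6, 7, 3, 4, 1, 3, 2, 4, 5, 6, 3, 4, 5, 1, 3, 4, 3, 1]) 23 (.leaf (.l 99) (wl [8, 6, 7, 1, 3, 4, 5, 6, 2, 4, 5, 3, 4, 1, 3, 2, 4, 5, 6, 7, 8, 6, 5, 3, 4, 1, 3, 2, 4, 5, 6, 7, 3, 4, 1, 3, 2, 4, 5, 6, 5, 4, 3, 1]) 23 (.leaf (.l 99) (wl [7, 8, 6, 7, 1, 3, 4, 5, 6, 2, 4, 5, 3, 4, 1, 3, 2, 4, 5, 6, 7, 8, 6, 5, 3, 4, 1, 3, 2, 4, 5, 6, 7, 3, 4, 1, 3, 2, 4, 5, 6, 3, 4, 5, 1, 3, 4, 3, 1]) 23 (.leaf (.l 99) (wl [7, 8, 6, 7, 1, 3, 4, 5, 6, 2, 4, 5, 3, 4, 1, 3, 2, 4, 5, 6, 7, 8, 6, 5, 3, 4, 1, 3, 2, 4, 5, 6, 7, 3, 4, 1, 3, 2, 4, 5, 6, 5, 4, 3,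 1]) 23 (.leaf (.l 99) (wl [7, 8, 6, 7, 1, 3, 4, 5, 6, 2, 4, 5, 3, 4, 1, 3, 2, 4, 5, 6, 7, 8, 6, 5, 3, 4, 1, 3, 2, 4, 5, 6, 7, 4, 1, 3, 2, 4, 5, 6, 5, 4, 3, 1]) 23 (.leaf (.l 99) (wl [7, 8, 6, 7, 1, 3, 4, 5, 6, 2, 4, 5, 3, 4, 1, 3, 2, 4, 5, 6, 7, 8, 6, 5, 3, 4, 1, 3, 2, 4, 5, 6, 7, 4, 1, 3, 2, 4, 5, 6, 3, 4, 5, 1, 3, 4, 3, 1]) 23 (.leaf (.l 99) (wl [8, 6, 7, 1, 3, 4, 5, 6, 2, 4, 5, 3, 4, 1, 3, 2, 4, 5, 6, 7, 8, 6, 5, 3, 4, 1, 3, 2, 4, 5, 6, 7, 4, 1, 3, 2, 4, 5, 6, 5, 4, 3, 1]) 23 (.leaf (.l 99) (wl [8, 6, 7, 1, 3, 4, 5, 6, 2, 4, 5, 3, 4, 1, 3, 2, 4, 5, 6, 7, 8, 6, 5, 3, 4, 1, 3, 2, 4, 5, 6, 7, 4, 1, 3, 2, 4, 5, 6, 3, 4, 5, 1, 3, 4, 3, 1]) 23 .nil)))))))))))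
  (.node (cmF 99 (.l 21))
  (.node (cmF 99 (.l 11))
  (.node (cmF 99 (.l 18))
  (.leaf (.l 99) (wl [6, 5, 4, 1, 3, 2, 4, 5, 6, 7, 5, 3, 4, 1, 3, 2, 4, 5, 6, 3, 4, 1, 3, 2, 4, 3, 1]) 22 (.leaf (.l 99) (wl [1, 3, 4, 5, 6, 7, 3, 2, 4, 5, 6, 3, 4, 1, 3, 2, 4]) 22 (.leaf (.l 99) (wl [1, 3, 4, 5, 6, 7, 4, 1, 3, 2, 4, 5, 6, 3, 4, 1, 3, 2, 4]) 22 (.leaf (.l 99) (wl [6, 5, 4, 1, 3, 2, 4, 5, 6, 7, 4, 1, 3, 2, 4, 5, 6, 3, 4, 1, 3, 2, 4, 3, 1]) 22 .nil))))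
  (.leaf (.l 99) (wl [8, 6, 5, 4, 1, 3, 2, 4, 5, 6, 7, 5, 3, 4, 1, 3, 2, 4, 5, 6, 3, 4, 1, 3, 2, 4, 3, 1]) 22 (.leaf (.l 99) (wl [8, 6, 5, 4, 1, 3, 2, 4, 5, 6, 7, 4, 1, 3, 2, 4, 5, 6, 3, 4, 1, 3, 2, 4, 3, 1]) 22 (.leaf (.l 99) (wl [7, 8, 7, 5]) 21 (.leaf (.l 99) (wl [7, 8, 7, 2]) 21 .nil)))))
  (.node (cmF 99 (wl [9, 22]))
  (.leaf (.l 99) (wl [4, 5, 6, 7, 8, 2, 4, 5, 6, 1, 3, 4, 5, 3, 4, 1, 3, 2, 4, 3, 1]) 22 (.leaf (.l 99) (wl [2, 4, 5, 6, 7, 8, 2, 4, 5, 6, 1, 3, 4, 5, 2, 4, 3, 1]) 22 (.leaf (.l 99) (wl [2, 4, 5, 6, 7, 8, 3, 4, 5, 6, 1, 3, 4, 5, 3, 4, 1, 3, 2, 4, 3, 1]) 22 (.leaf (.l 99) (wl [4, 5, 6, 7, 8, 3, 4, 5, 6, 1, 3, 4, 5, 2, 4, 3, 1]) 22 (.leaf (.l 99) (wl [2, 4,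 5, 6, 7, 8, 2, 4, 5, 6, 1, 3, 4, 5, 3, 4, 1, 3, 2, 4, 3, 1]) 22 (.leaf (.l 99) (wl [4, 5, 6, 7, 8, 2, 4, 5, 6, 1, 3, 4, 5, 2, 4, 3, 1]) 22 (.leaf (.l 99) (wl [4, 5, 6, 7, 8, 3, 4, 5, 6, 1, 3, 4, 5, 3, 4, 1, 3, 2, 4, 3, 1]) 22 (.leaf (.l 99) (wl [2, 4, 5, 6, 7, 8, 3, 4, 5, 6, 1, 3, 4, 5, 2, 4, 3, 1]) 22 .nil))))))))
  (.node (cmF 99 (wl [11, 22]))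
  (.node (cmF 99 (.l 18))
  (.leaf (.l 99) (wl [6, 5, 4, 1, 3, 2, 4, 5, 6, 7, 3, 4, 1, 3, 2, 4, 5, 6, 3, 4, 1, 3, 2, 4, 3, 1]) 22 (.leaf (.l 99) (wl [1, 3, 4, 5, 6, 7, 4, 3, 2, 4, 5, 6, 3, 4, 1, 3, 2, 4]) 22 (.leaf (.l 99) (wl [1, 3, 4, 5, 6, 7, 1, 3, 2, 4, 5, 6, 3, 4, 1, 3, 2, 4]) 22 (.leaf (.l 99) (wl [6, 5, 4, 1, 3, 2, 4, 5, 6, 7, 5, 4, 1, 3, 2, 4, 5, 6, 3, 4, 1, 3, 2, 4, 3, 1]) 22 .nil))))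
  (.leaf (.l 99) (wl [8, 6, 5, 4, 1, 3, 2, 4, 5, 6, 7, 3, 4, 1, 3, 2, 4, 5, 6, 3, 4, 1, 3, 2, 4, 3, 1]) 22 (.leaf (.l 99) (wl [8, 6, 5, 4, 1, 3, 2, 4, 5, 6, 7, 5, 4, 1, 3, 2, 4, 5, 6, 3, 4, 1, 3, 2, 4, 3, 1]) 22 (.leaf (.l 99) (wl [7, 8, 7, 5, 2]) 21 (.leaf (.l 99) (wl [7, 8, 7]) 21 .nil)))))
  (.node (cmF 99 (.l 12))
  (.leaf (.l 99) (wl [1, 3, 4, 5, 6, 7, 6, 5, 4, 3, 2, 4, 5, 6, 3, 4, 5, 1, 3, 4, 3, 1]) 22 (.leaf (.l 99) (wl [4, 1, 3, 2, 4, 5, 6, 7, 6, 5, 3, 4, 1, 3, 2, 4, 5, 6, 5, 3, 4, 1, 3, 2, 4, 3, 1]) 22 (.leaf (.l 99) (wl [4, 1, 3, 2, 4, 5, 6, 7, 5, 4, 1, 3, 2, 4, 5, 6, 5, 3, 4, 1, 3, 2, 4, 3, 1]) 22 (.leaf (.l 99) (wl [1, 3, 4, 5, 6, 7, 5, 4, 1, 3, 2, 4, 5, 6, 3,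 4, 5, 1, 3, 4, 3, 1]) 22 .nil))))
  (.leaf (.l 99) (wl [4, 1, 3, 2, 4, 5, 6, 7, 5, 3, 4, 1, 3, 2, 4, 5, 6, 5, 3, 4, 1, 3, 2, 4, 3, 1]) 22 (.leaf (.l 99) (wl [1, 3, 4, 5, 6, 7, 5, 4, 3, 2, 4, 5, 6, 3, 4, 5, 1, 3, 4, 3, 1]) 22 (.leaf (.l 99) (wl [1, 3, 4, 5, 6, 7, 6, 5, 4, 1, 3, 2, 4, 5, 6, 3, 4, 5, 1, 3, 4, 3, 1]) 22 (.leaf (.l 99) (wl [4, 1, 3, 2, 4, 5, 6, 7, 6, 5, 4, 1, 3, 2, 4, 5, 6, 5, 3, 4, 1, 3, 2, 4, 3, 1]) 22 .nil))))))))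
  (.node (cmF 99 (.l 11))
  (.node (cmF 99 (.l 18))
  (.leaf (.l 99) (wl [5, 6, 7, 2, 4, 5, 6, 4, 5, 3, 4]) 23 (.leaf (.l 99) (wl [6, 7, 4, 5, 6, 4, 5, 2, 4]) 23 (.leaf (.l 99) (wl [6, 7, 4, 5, 6, 4, 5, 3, 4]) 23 (.leaf (.l 99) (wl [5, 6, 7, 2, 4, 5, 6, 4, 5, 2, 4]) 23 .nil))))
  (.leaf (.l 99) (wl [6, 5, 4, 3, 2, 4, 5, 6, 7, 8, 1, 3, 4, 5, 6, 7, 3, 2, 4, 5, 6, 3, 4, 1, 3, 2, 4]) 22 (.leaf (.l 99) (wl [7, 8, 6, 5, 4, 1, 3, 2, 4, 5, 6, 7, 4, 1, 3, 2, 4, 5, 6, 3, 4, 1, 3, 2, 4, 3, 1]) 22 (.leaf (.l 99) (wl [8, 7, 5]) 21 (.leaf (.l 99) (wl [8, 7, 2]) 21 .nil)))))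
  (.node (cmF 99 (wl [11, 22]))
  (.node (cmF 99 (.l 18))
  (.leaf (.l 99) (wl [6, 7, 2, 4, 5, 6, 4, 5, 3, 4]) 23 (.leaf (.l 99) (wl [5, 6, 7, 4, 5, 6, 4, 5, 2, 4]) 23 (.leaf (.l 99) (wl [5, 6, 7, 4, 5, 6, 4, 5, 3, 4]) 23 (.leaf (.l 99) (wl [6, 7, 2, 4, 5, 6, 4, 5, 2, 4]) 23 .nil))))
  (.leaf (.l 99) (wl [7, 8, 6, 5, 4, 1, 3, 2, 4, 5, 6, 7, 3, 4, 1, 3, 2, 4, 5, 6, 3, 4, 1, 3, 2, 4, 3, 1]) 22 (.leaf (.l 99) (wl [7, 8, 6, 5, 4, 1, 3, 2, 4, 5, 6, 7, 5, 4, 1, 3, 2, 4, 5, 6, 3, 4, 1, 3, 2, 4, 3, 1]) 22 (.leaf (.l 99) (wl [8, 7, 5, 2]) 21 (.leaf (.l 99) (wl [8, 7]) 21 .nil)))))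
  (.leaf (.l 99) (wl [6, 7, 1, 3, 4, 5, 6, 2, 4, 5, 3, 4, 1, 3, 2, 4, 5, 6, 7, 8, 6, 5, 3, 4, 1, 3, 2, 4, 5, 6, 7, 3, 4, 1, 3, 2, 4, 5, 6, 1, 3, 2, 4, 3, 1]) 23 (.leaf (.l 99) (wl [6, 7, 8, 5, 6, 7, 2, 4, 5, 6, 3, 4]) 23 (.leaf (.l 99) (wl [6, 7, 8, 5, 6, 7, 2, 4, 5, 6, 2, 4]) 23 (.leaf (.l 99) (wl [6, 7, 1, 3, 4, 5, 6, 2, 4, 5, 3, 4, 1, 3, 2, 4, 5, 6, 7, 8, 6, 5, 3, 4, 1, 3, 2, 4, 5, 6, 7, 3, 4, 1, 3, 2, 4, 5, 6, 4, 3, 2, 4, 3, 1]) 23 (.leaf (.l 99) (wl [6, 7, 8, 5, 6, 7, 4, 5, 6, 2, 4]) 23 (.leaf (.l 99) (wl [6, 7, 1, 3, 4, 5, 6, 2, 4, 5, 3, 4, 1, 3, 2, 4, 5, 6, 7, 8, 6, 5, 3, 4, 1, 3, 2, 4, 5, 6, 7, 4, 1, 3, 2, 4, 5, 6, 4, 3, 2, 4, 3, 1]) 23 (.leaf (.l 99) (wl [6, 7, 1,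 3, 4, 5, 6, 2, 4, 5, 3, 4, 1, 3, 2, 4, 5, 6, 7, 8, 6, 5, 3, 4, 1, 3, 2, 4, 5, 6, 7, 4, 1, 3, 2, 4, 5, 6, 1, 3, 2, 4, 3, 1]) 23 (.leaf (.l 99) (wl [6, 7, 8, 5, 6, 7, 4, 5, 6, 3, 4]) 23 (.leaf (.l 99) (wl [2, 4, 5, 6, 3, 4]) 23 (.leaf (.l 99) (wl [8, 7, 4, 5, 6, 2, 4]) 23 (.leaf (.l 99) (wl [1, 3, 4, 5, 6, 2, 4, 5, 3, 4, 1, 3, 2, 4, 5, 6, 7, 8, 6, 5, 4, 3, 2, 4, 5, 6, 7, 4, 1, 3, 2, 4, 5, 6, 4, 3, 2, 4, 3, 1]) 23 (.leaf (.l 99) (wl [7, 4, 5, 6, 2, 4]) 23 (.leaf (.l 99) (wl [8, 7, 2, 4, 5, 6, 3, 4]) 23 (.leaf (.l 99) (wl [4, 5, 6, 2, 4]) 23 (.leaf (.l 99) (wl [7, 2, 4, 5, 6, 3, 4]) 23 (.leaf (.l 99) (wl [1, 3, 4, 5, 6, 2, 4, 5, 3, 4, 1, 3, 2, 4, 5, 6, 7, 8, 6, 5, 4, 3, 2, 4,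 5, 6, 7, 3, 4, 1, 3, 2, 4, 5, 6, 1, 3, 2, 4, 3, 1]) 23 (.leaf (.l 99) (wl [4, 5, 6, 3, 4]) 23 (.leaf (.l 99) (wl [8, 7, 2, 4, 5, 6, 2, 4]) 23 (.leaf (.l 99) (wl [1, 3, 4, 5, 6, 2, 4, 5, 3, 4, 1, 3, 2, 4, 5, 6, 7, 8, 6, 5, 4, 3, 2, 4, 5, 6, 7, 3, 4, 1, 3, 2, 4, 5, 6, 4, 3, 2, 4, 3, 1]) 23 (.leaf (.l 99) (wl [7, 2, 4, 5, 6, 2, 4]) 23 (.leaf (.l 99) (wl [8, 7, 4, 5, 6, 3, 4]) 23 (.leaf (.l 99) (wl [2, 4, 5, 6, 2, 4]) 23 (.leaf (.l 99) (wl [7, 4, 5, 6, 3, 4]) 23 (.leaf (.l 99) (wl [1, 3, 4, 5, 6, 2, 4, 5, 3, 4, 1, 3, 2, 4, 5, 6, 7, 8, 6, 5, 4, 3, 2, 4, 5, 6, 7, 4, 1, 3, 2, 4, 5, 6, 1, 3, 2, 4, 3, 1]) 23 .nil)))))))))))))))))))))))))))))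
  (.node (cmF 99 (.l 21))
  (.node (cmF 99 (.l 11))
  (.node (cmF 99 (.l 12))
  (.leaf (.l 99) (wl [7, 8, 1, 3, 4, 5, 6, 7, 1, 3, 2, 4, 5, 6, 3, 1]) 17 (.leaf (.l 99) (wl [7, 8, 1, 3, 2, 4, 5, 6, 7, 3, 2, 4, 5, 6, 3, 1]) 17 (.leaf (.l 99) (wl [7, 8, 2, 4]) 21 (.leaf (.l 99) (wl [7, 8, 3, 4]) 21 (.leaf (.l 99) (wl [8, 1, 3, 4, 5, 6, 7, 3, 2, 4, 5, 6, 3, 1]) 17 (.leaf (.l 99) (wl [8, 1, 3, 2, 4, 5, 6, 7, 1, 3, 2, 4, 5, 6, 3, 1]) 17 (.leaf (.l 99) (wl [8, 6, 5, 4, 1, 3, 2, 4, 5, 6, 7, 4, 1, 3, 2, 4, 5, 6, 2, 4, 3, 1]) 17 (.leaf (.l 99) (wl [8, 6, 5, 3, 4, 1, 3, 2, 4, 5, 6, 7, 3, 4, 1, 3, 2, 4, 5, 6, 2, 4, 3, 1]) 17 .nil))))))))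
  (.leaf (.l 99) (wl [1, 3, 4, 5, 1, 3, 2, 4, 3, 1]) 20 (.leaf (.l 99) (wl [6, 5, 4, 3, 2, 4, 5, 6, 1, 3, 4, 5, 1, 3, 2, 4, 3, 1]) 22 (.leaf (.l 99) (wl [1, 3, 2, 4, 5, 3, 2, 4, 3, 1]) 20 (.leaf (.l 99) (wl [6, 5, 4, 3, 2, 4, 5, 6, 1, 3, 4, 5, 4, 3, 2, 4, 3, 1]) 22 (.leaf (.l 99) (wl [1, 3, 4, 5, 6, 7, 3, 2, 4, 5, 6, 3, 1]) 17 (.leaf (.l 99) (wl [6, 7, 3, 2, 4, 5, 6, 4, 3, 2, 4]) 22 (.leaf (.l 99) (wl [6, 7, 4, 5, 6, 4, 3, 2, 4]) 22 (.leaf (.l 99) (wl [1, 3, 2, 4, 5, 6, 7, 1, 3, 2, 4, 5, 6, 3, 1]) 17 .nil)))))))))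
  (.node (cmF 99 (wl [11, 20]))
  (.node (cmF 99 (.l 12))
  (.leaf (.l 99) (wl [7, 8, 6, 5, 3, 4, 1, 3, 2, 4, 5, 6, 7, 4, 1, 3, 2, 4, 5, 6, 2, 4, 3, 1]) 17 (.leaf (.l 99) (wl [7, 8, 6, 5, 4, 1, 3, 2, 4, 5, 6, 7, 3, 4, 1, 3, 2, 4, 5, 6, 2, 4, 3, 1]) 17 (.leaf (.l 99) (wl [7, 8, 7, 2, 4, 2]) 21 (.leaf (.l 99) (wl [7, 8, 7, 3, 4, 2]) 21 (.leaf (.l 99) (wl [8, 4]) 21 (.leaf (.l 99) (wl [8, 4, 5, 2]) 21 (.leaf (.l 99) (wl [8, 7, 4, 2]) 21 (.leaf (.l 99) (wl [8, 7, 4, 5]) 21 .nil))))))))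
  (.leaf (.l 99) (wl [8, 1, 3, 4, 5, 4, 3, 2, 4, 3, 1]) 22 (.leaf (.l 99) (wl [7, 8, 1, 3, 4, 5, 1, 3, 2, 4, 3, 1]) 22 (.leaf (.l 99) (wl [8, 1, 3, 4, 5, 1, 3, 2, 4, 3, 1]) 22 (.leaf (.l 99) (wl [7, 8, 1, 3, 4, 5, 4, 3, 2, 4, 3, 1]) 22 (.leaf (.l 99) (wl [7, 4, 5, 2]) 21 (.leaf (.l 99) (.l 4) 21 (.leaf (.l 99) (wl [4, 5, 2]) 21 (.leaf (.l 99) (wl [7, 4]) 21 .nil)))))))))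
  (.node (cmF 99 (.l 9))
  (.leaf (.l 99) (wl [3, 4, 5, 6, 7, 8, 1, 3, 4, 5, 6, 7, 3, 4, 1, 3, 2, 4, 5, 6, 2, 4, 3, 1]) 17 (.leaf (.l 99) (wl [3, 4, 5, 6, 7, 8, 2, 4, 5, 6, 2, 4]) 21 (.leaf (.l 99) (wl [3, 4, 5, 6, 7, 8, 1, 3, 2, 4, 5, 6, 7, 5, 4, 3, 2, 4, 5, 6, 2, 4, 3, 1]) 17 (.leaf (.l 99) (wl [3, 4, 5, 6, 7, 8, 3, 4, 5, 6, 2, 4]) 21 (.leaf (.l 99) (wl [2, 4, 5, 6, 7, 8, 1, 3, 4, 5, 6, 7, 3, 4, 1, 3, 2, 4, 5, 6, 2, 4, 3, 1]) 17 (.leaf (.l 99) (wl [2, 4, 5, 6, 7, 8, 2, 4, 5, 6, 2, 4]) 21 (.leaf (.l 99) (wl [2, 4, 5, 6, 7, 8, 1, 3, 2, 4, 5, 6, 7, 5, 4, 3, 2, 4, 5, 6, 2, 4, 3, 1]) 17 (.leaf (.l 99) (wl [2, 4, 5, 6, 7, 8, 3, 4, 5, 6, 2, 4]) 21 .nil))))))))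
  (.node (cmF 99 (wl [9, 20]))
  (.leaf (.l 99) (wl [4, 5, 6, 7, 8, 1, 3, 4, 5, 6, 7, 4, 1, 3, 2, 4, 5, 6, 2, 4, 3, 1]) 17 (.leaf (.l 99) (wl [4, 5, 6, 7, 8, 2, 4, 5, 6, 4]) 21 (.leaf (.l 99) (wl [4, 5, 6, 7, 8, 7, 5, 6, 2, 4]) 21 (.leaf (.l 99) (wl [4, 5, 6, 7, 8, 4, 1, 3, 2, 4, 5, 6, 7, 5, 4, 3, 2, 4, 5, 6, 2, 4, 3, 1]) 17 (.leaf (.l 99) (wl [4, 5, 6, 7, 8, 1, 3, 2, 4, 5, 6, 7, 4, 3, 2, 4, 5, 6, 2, 4, 3, 1]) 17 (.leaf (.l 99) (wl [4, 5, 6, 7, 8, 3, 4, 5, 6, 4]) 21 (.leaf (.l 99) (wl [4, 5, 6, 7, 8, 7, 5, 6, 3, 4]) 21 (.leaf (.l 99) (wl [3, 2, 4, 5, 6, 7, 8, 1, 3, 4, 5, 6, 7, 4, 1, 3, 2, 4, 5, 6, 2, 4, 3, 1]) 17 .nil))))))))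
  (.leaf (.l 99) (wl [6, 7, 8, 1, 3, 4, 5, 6, 7, 4, 3, 2, 4, 5, 6, 4, 3, 1]) 17 (.leaf (.l 99) (wl [6, 7, 8, 5, 6, 7, 4, 2]) 21 (.leaf (.l 99) (wl [6, 7, 8, 3, 4, 1, 3, 2, 4, 5, 6, 7, 3, 4, 1, 3, 2, 4, 5, 6, 2, 4, 3, 1]) 17 (.leaf (.l 99) (wl [6, 7, 8, 5, 6, 4, 5, 2]) 21 (.leaf (.l 99) (wl [6, 7, 8, 4, 1, 3, 2, 4, 5, 6, 7, 4, 1, 3, 2, 4, 5, 6, 2, 4, 3, 1]) 17 (.leaf (.l 99) (wl [6, 7, 8, 5, 6, 4]) 21 (.leaf (.l 99) (wl [6, 7, 8, 1, 3, 2, 4, 5, 6, 7, 4, 1, 3, 2, 4, 5, 6, 4, 3, 1]) 17 (.leaf (.l 99) (wl [6, 7, 8, 7, 4, 5, 6, 4]) 21 (.leaf (.l 99) (wl [5, 6, 7, 8, 1, 3, 4, 5, 6, 7, 4, 1, 3, 2, 4, 5, 6, 4, 3, 1]) 17 (.leaf (.l 99) (wl [5, 6, 7, 8, 5, 6, 7, 3, 4, 2]) 21 (.leaf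 (.l 99) (wl [5, 6, 7, 8, 5, 6, 2, 4]) 21 (.leaf (.l 99) (wl [5, 6, 7, 8, 4, 1, 3, 2, 4, 5, 6, 7, 3, 4, 1, 3, 2, 4, 5, 6, 2, 4, 3, 1]) 17 (.leaf (.l 99) (wl [5, 6, 7, 8, 5, 6, 7, 2, 4, 2]) 21 (.leaf (.l 99) (wl [5, 6, 7, 8, 1, 3, 2, 4, 5, 6, 7, 4, 3, 2, 4, 5, 6, 4, 3, 1]) 17 (.leaf (.l 99) (wl [5, 6, 7, 8, 3, 4, 1, 3, 2, 4, 5, 6, 7, 4, 1, 3, 2, 4, 5, 6, 2, 4, 3, 1]) 17 (.leaf (.l 99) (wl [5, 6, 7, 8, 5, 6, 3, 4]) 21 .nil))))))))))))))))))))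
  (.node (cmF 99 (.l 11))
  (.node (cmF 99 (wl [18, 21]))
  (.leaf (.l 99) (wl [1, 3, 4, 5, 6, 7, 1, 3, 2, 4, 5, 6, 3, 1]) 17 (.leaf (.l 99) (wl [6, 7, 2, 4, 5, 6, 4, 3, 2, 4]) 22 (.leaf (.l 99) (wl [6, 7, 3, 4, 5, 6, 4, 3, 2, 4]) 22 (.leaf (.l 99) (wl [1, 3, 2, 4, 5, 6, 7, 3, 2, 4, 5, 6, 3, 1]) 17 (.leaf (.l 99) (wl [7, 2, 4]) 21 (.leaf (.l 99) (wl [3, 4]) 21 (.leaf (.l 99) (wl [2, 4]) 21 (.leaf (.l 99) (wl [7, 3, 4]) 21 (.leaf (.l 99) (wl [1, 3, 4, 5, 3, 2, 4, 3, 1]) 20 (.leaf (.l 99) (wl [6, 5, 4, 3, 2, 4, 5, 6, 1, 3, 4, 5, 4, 1, 3, 2, 4, 3, 1]) 22 (.leaf (.l 99) (wl [1, 3, 2, 4, 5, 1, 3, 2, 4, 3, 1]) 20 (.leaf (.l 99) (wl [6, 5, 4, 3, 2, 4, 5, 6, 1, 3, 4, 5, 3, 2, 4, 3,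 1]) 22 (.leaf (.l 99) (wl [8, 1, 3, 4, 5, 3, 2, 4, 3, 1]) 22 (.leaf (.l 99) (wl [7, 8, 1, 3, 4, 5, 4, 1, 3, 2, 4, 3, 1]) 22 (.leaf (.l 99) (wl [8, 1, 3, 4, 5, 4, 1, 3, 2, 4, 3, 1]) 22 (.leaf (.l 99) (wl [7, 8, 1, 3, 4, 5, 3, 2, 4, 3, 1]) 22 .nil))))))))))))))))
  (.node (cmF 99 (.l 18))
  (.leaf (.l 99) (wl [8, 1, 3, 4, 5, 6, 7, 1, 3, 2, 4, 5, 6, 3, 1]) 17 (.leaf (.l 99) (wl [8, 1, 3, 2, 4, 5, 6, 7, 3, 2, 4, 5, 6, 3, 1]) 17 (.leaf (.l 99) (wl [8, 3, 4]) 21 (.leaf (.l 99) (wl [8, 2, 4]) 21 (.leaf (.l 99) (wl [7, 8, 1, 3, 4, 5, 6, 7, 3, 2, 4, 5, 6, 3, 1]) 17 (.leaf (.l 99) (wl [7, 8, 1, 3, 2, 4, 5, 6, 7, 1, 3, 2, 4, 5, 6, 3, 1]) 17 (.leaf (.l 99) (wl [6, 5, 4, 3, 2, 4, 5, 6,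 7, 8, 1, 3, 4, 5, 6, 7, 3, 2, 4, 5, 6, 3, 1]) 17 (.leaf (.l 99) (wl [7, 8, 6, 5, 4, 1, 3, 2, 4, 5, 6, 7, 4, 1, 3, 2, 4, 5, 6, 2, 4, 3, 1]) 17 .nil))))))))
  (.leaf (.l 99) (wl [1, 3, 4, 5, 6, 7, 1, 3, 2, 4, 5, 6, 4, 5, 2, 4, 3, 1]) 23 (.leaf (.l 99) (wl [8, 7, 6, 5, 4, 3, 2, 4, 5, 6, 7, 8, 6, 5, 4, 1, 3, 2, 4, 5, 6, 7, 3, 4, 1, 3, 2, 4, 5, 6, 5, 4, 3, 1]) 23 (.leaf (.l 99) (wl [1, 3, 4, 5, 6, 7, 1, 3, 2, 4, 5, 6, 3, 4, 5, 1, 3, 4]) 23 (.leaf (.l 99) (wl [8, 7, 6, 5, 4, 3, 2, 4, 5, 6, 7, 8, 6, 5, 3, 4, 1, 3, 2, 4, 5, 6, 7, 4, 1, 3, 2, 4, 5, 6, 3, 4, 5, 1, 3, 4, 3, 1]) 23 (.leaf (.l 99) (wl [8, 7, 6, 5, 4, 3, 2, 4, 5, 6, 7, 8, 6, 5, 3, 4, 1, 3, 2, 4, 5, 6, 7, 4, 1, 3, 2, 4,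 5, 6, 5, 4, 3, 1]) 23 (.leaf (.l 99) (wl [1, 3, 2, 4, 5, 6, 7, 3, 2, 4, 5, 6, 4, 5, 2, 4, 3, 1]) 23 (.leaf (.l 99) (wl [1, 3, 2, 4, 5, 6, 7, 3, 2, 4, 5, 6, 3, 4, 5, 1, 3, 4]) 23 (.leaf (.l 99) (wl [8, 7, 6, 5, 4, 3, 2, 4, 5, 6, 7, 8, 6, 5, 4, 1, 3, 2, 4, 5, 6, 7, 3, 4, 1, 3, 2, 4, 5, 6, 3, 4, 5, 1, 3, 4, 3, 1]) 23 (.leaf (.l 99) (wl [1, 3, 4, 5, 6, 7, 3, 2, 4, 5, 6, 4, 5, 2, 4, 3, 1]) 23 (.leaf (.l 99) (wl [8, 7, 6, 5, 4, 3, 2, 4, 5, 6, 7, 8, 6, 5, 4, 1, 3, 2, 4, 5, 6, 7, 4, 1, 3, 2, 4, 5, 6, 5, 4, 3, 1]) 23 (.leaf (.l 99) (wl [1, 3, 4, 5, 6, 7, 3, 2, 4, 5, 6, 3, 4, 5, 1, 3, 4]) 23 (.leaf (.l 99) (wl [8, 7, 6, 5, 4, 3, 2, 4, 5, 6, 7, 8, 6, 5, 3, 4, 1, 3, 2, 4, 5, 6, 7, 3,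 4, 1, 3, 2, 4, 5, 6, 3, 4, 5, 1, 3, 4, 3, 1]) 23 (.leaf (.l 99) (wl [8, 7, 6, 5, 4, 3, 2, 4, 5, 6, 7, 8, 6, 5, 3, 4, 1, 3, 2, 4, 5, 6, 7, 3, 4, 1, 3, 2, 4, 5, 6, 5, 4, 3, 1]) 23 (.leaf (.l 99) (wl [1, 3, 2, 4, 5, 6, 7, 1, 3, 2, 4, 5, 6, 4, 5, 2, 4, 3, 1]) 23 (.leaf (.l 99) (wl [1, 3, 2, 4, 5, 6, 7, 1, 3, 2, 4, 5, 6, 3, 4, 5, 1, 3, 4]) 23 (.leaf (.l 99) (wl [8, 7, 6, 5, 4, 3, 2, 4, 5, 6, 7, 8, 6, 5, 4, 1, 3, 2, 4, 5, 6, 7, 4, 1, 3, 2, 4, 5, 6, 3, 4, 5, 1, 3, 4, 3, 1]) 23 .nil))))))))))))))))))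
  (.node (cmF 99 (.l 9))
  (.leaf (.l 99) (wl [4, 5, 6, 7, 8, 1, 3, 4, 5, 6, 7, 3, 4, 1, 3, 2, 4, 5, 6, 2, 4, 3, 1]) 17 (.leaf (.l 99) (wl [4, 5, 6, 7, 8, 2, 4, 5, 6, 2, 4]) 21 (.leaf (.l 99) (wl [4, 5, 6, 7, 8, 4, 1, 3, 2, 4, 5, 6, 7, 4, 3, 2, 4, 5, 6, 2, 4, 3, 1]) 17 (.leaf (.l 99) (wl [4, 5, 6, 7, 8, 6, 7, 5, 6, 2, 4]) 21 (.leaf (.l 99) (wl [4, 5, 6, 7, 8, 3, 4, 5, 6, 2, 4]) 21 (.leaf (.l 99) (wl [4, 5, 6, 7, 8, 1, 3, 2, 4, 5, 6, 7, 5, 4, 3, 2, 4, 5, 6, 2, 4, 3, 1]) 17 (.leaf (.l 99) (wl [4, 5, 6, 7, 8, 2, 4, 5, 6, 3, 4]) 21 (.leaf (.l 99) (wl [4, 5, 6, 7, 8, 3, 4, 1, 3, 2, 4, 5, 6, 7, 4, 3, 2, 4, 5, 6, 4, 3, 1]) 17 .nil))))))))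
  (.node (cmF 99 (.l 12))
  (.leaf (.l 99) (wl [6, 7, 8, 1, 3, 4, 5, 6, 7, 4, 1, 3, 2, 4, 5, 6, 4, 3, 1]) 17 (.leaf (.l 99) (wl [6, 7, 8, 5, 6, 7, 3, 4, 2]) 21 (.leaf (.l 99) (wl [6, 7, 8, 1, 3, 2, 4, 5, 6, 7, 4, 3, 2, 4, 5, 6, 4, 3, 1]) 17 (.leaf (.l 99) (wl [6, 7, 8, 5, 6, 7, 2, 4, 2]) 21 (.leaf (.l 99) (wl [5, 6, 7, 8, 1, 3, 4, 5, 6, 7, 4, 3, 2, 4, 5, 6, 4, 3, 1]) 17 (.leaf (.l 99) (wl [5, 6, 7, 8, 5, 6, 7, 4, 2]) 21 (.leaf (.l 99) (wl [5, 6, 7, 8, 7, 4, 5, 6, 4]) 21 (.leaf (.l 99) (wl [5, 6, 7, 8, 1, 3, 2, 4, 5, 6, 7, 4, 1, 3, 2, 4, 5, 6, 4, 3, 1]) 17 .nil))))))))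
  (.node (cmF 99 (wl [9, 20]))
  (.leaf (.l 99) (wl [3, 4, 5, 6, 7, 8, 1, 3, 4, 5, 6, 7, 4, 1, 3, 2, 4, 5, 6, 2, 4, 3, 1]) 17 (.leaf (.l 99) (wl [2, 4, 5, 6, 7, 8, 7, 5, 6, 3, 4]) 21 (.leaf (.l 99) (wl [2, 4, 5, 6, 7, 8, 7, 5, 6, 2, 4]) 21 (.leaf (.l 99) (wl [3, 4, 5, 6, 7, 8, 1, 3, 2, 4, 5, 6, 7, 4, 3, 2, 4, 5, 6, 2, 4, 3, 1]) 17 (.leaf (.l 99) (wl [2, 4, 5, 6, 7, 8, 1, 3, 4, 5, 6, 7, 4, 1, 3, 2, 4, 5, 6, 2, 4, 3, 1]) 17 (.leaf (.l 99) (wl [3, 4, 5, 6, 7, 8, 7, 5, 6, 3, 4]) 21 (.leaf (.l 99) (wl [3, 4, 5, 6, 7, 8, 7, 5, 6, 2, 4]) 21 (.leaf (.l 99) (wl [2, 4, 5, 6, 7, 8, 1, 3, 2, 4, 5, 6, 7, 4, 3, 2, 4, 5, 6, 2, 4, 3, 1]) 17 .nil))))))))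
  (.node (cmF 99 (wl [11, 20]))
  (.leaf (.l 99) (wl [8, 6, 5, 4, 1, 3, 2, 4, 5, 6, 7, 3, 4, 1, 3, 2, 4, 5, 6, 2, 4, 3, 1]) 17 (.leaf (.l 99) (wl [8, 6, 5, 3, 4, 1, 3, 2, 4, 5, 6, 7, 4, 1, 3, 2, 4, 5, 6, 2, 4, 3, 1]) 17 (.leaf (.l 99) (wl [8, 7, 2, 4, 2]) 21 (.leaf (.l 99) (wl [8, 7, 3, 4, 2]) 21 (.leaf (.l 99) (wl [7, 8, 4, 5, 2]) 21 (.leaf (.l 99) (wl [7, 8, 4]) 21 (.leaf (.l 99) (wl [7, 8, 7, 4, 2]) 21 (.leaf (.l 99) (wl [7, 8, 7, 4, 5]) 21 .nil))))))))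
  (.leaf (.l 99) (wl [6, 7, 8, 5, 6, 3, 4]) 21 (.leaf (.l 99) (wl [6, 7, 8, 3, 4, 1, 3, 2, 4, 5, 6, 7, 4, 1, 3, 2, 4, 5, 6, 2, 4, 3, 1]) 17 (.leaf (.l 99) (wl [6, 7, 8, 5, 6, 2, 4]) 21 (.leaf (.l 99) (wl [6, 7, 8, 4, 1, 3, 2, 4, 5, 6, 7, 3, 4, 1, 3, 2, 4, 5, 6, 2, 4, 3, 1]) 17 (.leaf (.l 99) (wl [5, 6, 7, 8, 4, 1, 3, 2, 4, 5, 6, 7, 4, 1, 3, 2, 4, 5, 6, 2, 4, 3, 1]) 17 (.leaf (.l 99) (wl [5, 6, 7, 8, 5, 6, 4]) 21 (.leaf (.l 99) (wl [5, 6, 7, 8, 5, 6, 4, 5, 2]) 21 (.leaf (.l 99) (wl [4, 3, 2, 4, 5, 6, 7, 8, 1, 3, 4, 5, 6, 7, 4, 3, 2, 4, 5, 6, 4, 3, 1]) 17 .nil)))))))))))))))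

variable (D : Md N8 γ)
include D

theorem cls {x : G} (a : x * x = 1) (b : x ≠ 1) : ∃ k ∈ [17, 19, 20, 21, 22, 23], ∃ g, g * γ k * g⁻¹ = x :=
  D.cls 2 _ cls_t (by decide +kernel) a b

theorem st_z (T : TX (genW γ (N8.ws 1)) M Y) (h : γ 17 ∈ M) : Out γ M [] [18] :=
  D.step 1 2 17 [.l 24, .l 25, .l 26, .l 12] []
    [.mul (.l 25) (.mul (.l 24) (.mul (.l 25) (.l 26))), .mul (.l 24) (.mul (.l 25) (.mul (.l 12) (.l 26))), .mul (.l 25) (.mul (.l 26) (.mul (.l 25) (.l 12))), .mul (.l 25) (.mul (.l 24) (.mul (.l 25) (.l 12))), .mul (.l 25) (.l 12), .mul (.l 24) (.l 26), .mul (.l 24) (.l 12)] _ _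
    (.leaf (.mul (.l 99) (.l 17)) (.l 0) 18 (.leaf (.l 99) (.l 0) 18 .nil))
    (by decide +kernel) T h

theorem st_r (T : TX (genW γ (N8.ws 1)) M Y) (h : γ 19 ∈ M) : Out γ M [17] [] :=
  D.step 1 2 19 [.l 24, .l 28, .l 26, .l 29] [.l 27]
    [.mul (.l 28) (.mul (.l 24) (.mul (.l 28) (.l 26))), .mul (.l 28) (.mul (.l 24) (.l 26)), .mul (.l 24) (.mul (.l 28) (.mul (.l 24) (.mul (.l 26) (.l 29))))] _ _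
    (.leaf (.pow (.mul (.l 99) (.mul (.mul (.mul (.l 27) (.l 99)) (.inv (.l 27))) (.mul (.mul (.mul (.mul (.l 24) (.l 27)) (.l 99)) (.inv (.mul (.l 24) (.l 27)))) (.mul (.mul (.mul (.l 28) (.l 27)) (.l 99)) (.inv (.mul (.l 28) (.l 27))))))) 3) (wl [8, 5, 4, 1, 3, 2, 4, 5, 6, 7, 1, 3, 2, 4, 5, 6, 2, 4, 3, 1]) 17 (.leaf (.pow (.mul (.l 99) (.mul (.mul (.mul (.l 27) (.l 99)) (.inv (.l 27))) (.mul (.mul (.mul (.mul (.l 24) (.l 27)) (.l 99)) (.inv (.mul (.l 24) (.l 27)))) (.mul (.mul (.mul (.l 28) (.l 27)) (.l 99)) (.inv (.mul (.l 28) (.l 27))))))) 3) (wl [8, 5, 4, 1, 3, 2, 4, 5, 6, 7, 1, 3, 2, 4, 5, 6, 2, 4, 3, 1]) 17 (.leaf (.pow (.mul (.l 99) (.mul (.mul (.mul (.l 27) (.mul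 (.l 24) (.mul (.l 27) (.mul (.l 24) (.l 27))))) (.l 99)) (.inv (.mul (.l 27) (.mul (.l 24) (.mul (.l 27) (.mul (.l 24) (.l 27)))))))) 2) (wl [6, 7, 5, 6]) 17 (.leaf (.l 99) (.l 0) 17 (.leaf (.pow (.mul (.l 99) (.mul (.mul (.mul (.l 27) (.mul (.l 24) (.mul (.l 27) (.mul (.l 24) (.l 27))))) (.l 99)) (.inv (.mul (.l 27) (.mul (.l 24) (.mul (.l 27) (.mul (.l 24) (.l 27)))))))) 2) (wl [6, 7, 5, 6]) 17 (.leaf (.mul (.l 99) (.l 19)) (.l 0) 17 .nil))))))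
    (by decide +kernel) T h

theorem st_b (T : TX (genW γ (N8.ws 1)) M Y) (h : γ 20 ∈ M) : Out γ M [17, 19] [] :=
  D.step 1 2 20 [.l 24, .l 25, .l 28, .l 26, .l 29] [.l 30]
    [.mul (.l 25) (.mul (.l 24) (.mul (.l 25) (.l 26))), .mul (.l 24) (.mul (.l 25) (.mul (.l 28) (.mul (.l 26) (.l 29)))), .mul (.l 28) (.mul (.l 24) (.l 26)), .mul (.l 24) (.mul (.l 25) (.mul (.l 28) (.l 26))), .mul (.l 24) (.l 26)] _ _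
    (.leaf (.l 99) (wl [4, 3, 2, 4]) 19 (.leaf (.l 99) (.l 0) 19 (.leaf (.mul (.l 99) (.mul (.mul (.l 30) (.l 99)) (.inv (.l 30)))) (wl [7, 5, 6]) 17 (.leaf (.l 99) (.l 0) 17 (.leaf (.mul (.l 99) (.l 20)) (.l 0) 17 (.leaf (.mul (.l 99) (.mul (.mul (.l 30) (.l 99)) (.inv (.l 30)))) (wl [7, 5, 6]) 17 .nil))))))
    (by decide +kernel) T h

theorem st_c (T : TX (genW γ (N8.ws 1)) M Y) (h : γ 21 ∈ M) : Out γ M [17] [] :=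
  D.step 1 2 21 [.l 31, .l 32, .l 33, .l 34, .l 12] []
    [.mul (.l 32) (.l 12), .mul (.l 32) (.l 34), .mul (.l 31) (.l 12), .mul (.l 31) (.mul (.l 12) (.l 33))] _ _
    (.leaf (.l 99) (.l 0) 17 (.leaf (.mul (.l 99) (.l 21)) (.l 0) 17 .nil))
    (by decide +kernel) T h

theorem st_e (T : TX (genW γ (N8.ws 1)) M Y) (h : γ 22 ∈ M) : Out γ M [17] [] :=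
  D.step 1 2 22 [.l 31, .l 24, .l 35, .l 26, .l 36] []
    [.mul (.l 36) (.mul (.l 24) (.mul (.l 26) (.l 36))), .mul (.l 31) (.mul (.l 35) (.l 36)), .mul (.l 31) (.l 36), .mul (.l 24) (.l 26)] _ _
    (.leaf (.l 99) (.l 0) 17 (.leaf (.mul (.l 99) (.l 22)) (.l 0) 17 .nil))
    (by decide +kernel) T h

theorem st_rz (T : TX (genW γ (N8.ws 1)) M Y) (h : γ 23 ∈ M) : Out γ M [17, 19, 20] [] :=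
  D.step 1 2 23 [.l 24, .l 28, .l 26, .l 29] []
    [.mul (.l 28) (.mul (.l 24) (.mul (.l 28) (.l 26))), .mul (.l 24) (.mul (.l 28) (.mul (.l 24) (.mul (.l 26) (.l 29)))), .mul (.l 28) (.mul (.l 24) (.l 26)), .mul (.l 24) (.l 26)] _ _
    (.leaf (.l 99) (wl [4, 3, 2, 4]) 19 (.leaf (.l 99) (.l 0) 19 (.leaf (.l 99) (.l 0) 20 (.leaf (.l 99) (.l 0) 17 (.leaf (.l 99) (wl [4, 5, 2, 4]) 20 (.leaf (.mul (.l 99) (.l 23)) (.l 0) 20 .nil))))))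
    (by decide +kernel) T h

theorem der : genW γ (N8.ws 1) = commutator G := by
  have := D.fin
  obtain ⟨e⟩ := N8_equiv
  obtain ⟨f, -⟩ := D.iso.exists_equiv (N8.ws 0)
  refine eq_of_le_of_card_ge (genW_le.2 (List.forall_mem_cons.2 ⟨commutator_mem_commutator (mem_top (γ 13)) (mem_top (γ 14)),
    List.forall_mem_singleton.2 (commutator_mem_commutator (mem_top (γ 15)) (mem_top (γ 16)))⟩)) ?_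
  rw [← Nat.card_congr (Orth.commutatorCongr (e.symm.trans (f.trans ((MulEquiv.subgroupCongr D.top).trans topEquiv)))).toEquiv,
    F2.card_omega_eight, D.card]
  decide +kernel

theorem nrm : (genW γ (N8.ws 1)).Normal := der D ▸ inferInstance

theorem bad_z : Bad (genW γ (N8.ws 1)) (γ 17) := @Bad.of _ _ _ (nrm D) _ fun _ _ T h =>
  (st_z D T h).elim (fun ⟨_, k, _⟩ => nomatch k) fun ⟨_, k, a⟩ => D.gen 1 17 18 _ T h (List.mem_singleton.1 k ▸ a)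

theorem bad_of {k : ℕ} {R : List ℕ} (h : ∀ {M Y}, TX (genW γ (N8.ws 1)) M Y → γ k ∈ M → Out γ M R [])
    (b : ∀ k ∈ R, Bad (genW γ (N8.ws 1)) (γ k)) : Bad (genW γ (N8.ws 1)) (γ k) := @Bad.of _ _ _ (nrm D) _ fun _ _ T m =>
  (h T m).elim (fun ⟨_, k, g, a⟩ => b _ k _ _ T g a) fun ⟨_, k, _⟩ => nomatch k

/-- the main fact -/
theorem te (T : TX (commutator G) M Y) : commutator G ≤ Y := by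
  have := D.fin
  rw [← der D] at T ⊢
  have z := bad_z D
  have r := bad_of D (st_r D) (by simpa)
  have b := bad_of D (st_b D) (by simpa using ⟨z, r⟩)
  obtain ⟨x, m, p, q⟩ := T.inv
  obtain ⟨k, h, g, rfl⟩ := cls D p q
  exact (show ∀ k ∈ [17, 19, 20, 21, 22, 23], Bad _ (γ k) by
    simpa using ⟨z, r, b, bad_of D (st_c D) (by simpa), bad_of D (st_e D) (by simpa), bad_of D (st_rz D) (by simpa using ⟨z, r, b⟩)⟩) k h _ _ T g m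

end Cfsg.Lib.NC.O8
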